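import Cfsg.Agent.H98.TensorSymTwo.Invol

/-!
The conjugate of a reflection has the form `1 ⊗ S + A ⊗ J` with a skew `J` of rank two, or it is decomposable.
-/

set_option autoImplicit false

namespace Cfsg.Agent.H98.TensorSymTwo

open Module

variable {F X : Type*} [Field F] [AddCommGroup X] [Module F X] [Fintype F]

namespace Symm

variable {S : Symm F X} {M : Subgroup ((X × X) ≃ₗ[F] (X × X))}

variable (S)

/-- `v ↦ β(v, q) p - β(v, p) q`. -/
def skewOf (p q : X) : X →ₗ[F] X := (S.β.flip q).smulRight p - (S.β.flip p).smulRight q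

theorem skewOf_apply (p q v : X) : S.skewOf p q v = S.β v q • p - S.β v p • q := rfl

theorem skewOf_skew (p q u v : X) : S.β (S.skewOf p q u) v = -S.β u (S.skewOf p q v) := by
  simp only [skewOf_apply, map_sub, map_smul, LinearMap.sub_apply, LinearMap.smul_apply, smul_eq_mul, S.symm u p,
    S.symm u q, S.symm v p, S.symm v q]
  ring

variable {S}

/-- A skew map vanishing on a space of codimension two is unique up to a factor. -/
theorem skew_unique [FiniteDimensional F X] {K : Submodule F X} (hK : finrank F X ≤ finrank F K + 2)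
    {J J' : X →ₗ[F] X} (hJ : ∀ u v, S.β (J u) v = -S.β u (J v)) (hJ' : ∀ u v, S.β (J' u) v = -S.β u (J' v))
    (hJK : ∀ k ∈ K, J k = 0) (hJ'K : ∀ k ∈ K, J' k = 0) (h0 : J ≠ 0) : ∃ c : F, J' = c • J := by
  obtain ⟨p₁, p₂, hne⟩ : ∃ p₁ p₂, S.β (J p₁) p₂ ≠ 0 := by
    by_contra hc
    push Not at hc
    exact h0 (LinearMap.ext fun u => S.nd _ fun v => hc u v)
  have hself : ∀ {E : X →ₗ[F] X}, (∀ u v, S.β (E u) v = -S.β u (E v)) → ∀ u, S.β (E u) u = 0 := fun hE u => by
    have h1 := hE u u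
    rw [S.symm u (_ : X)] at h1
    exact (mul_eq_zero.1 (show (2 : F) * _ = 0 by linear_combination h1)).resolve_left S.two
  have hsp : K ⊔ Submodule.span F {p₁, p₂} = ⊤ := by
    refine Submodule.eq_top_of_finrank_eq (le_antisymm (Submodule.finrank_le _) ?_)
    have hinf : K ⊓ Submodule.span F {p₁, p₂} = ⊥ := by
      rw [Submodule.eq_bot_iff]
      rintro v ⟨hvK, hv⟩
      obtain ⟨a, b, rfl⟩ := Submodule.mem_span_pair.1 hv
      have h1 := hJK _ hvK
      have e1 := congrArg (S.β · p₂) h1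
      have e2 := congrArg (S.β · p₁) h1
      simp only [map_add, map_smul, LinearMap.add_apply, LinearMap.smul_apply, smul_eq_mul, map_zero,
        LinearMap.zero_apply, hself hJ, mul_zero, add_zero, zero_add] at e1 e2
      have hne' : S.β (J p₂) p₁ ≠ 0 := by rw [hJ, S.symm]; exact neg_ne_zero.2 hne
      simp [(mul_eq_zero.1 e1).resolve_right hne, (mul_eq_zero.1 e2).resolve_right hne']
    have h1 := Submodule.finrank_sup_add_finrank_inf_eq K (Submodule.span F {p₁, p₂})
    rw [hinf, finrank_bot] at h1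
    have h2 : finrank F (Submodule.span F ({p₁, p₂} : Set X)) = 2 := by
      have hli : LinearIndependent F ![p₁, p₂] := LinearIndependent.pair_iff.2 fun a b hab => by
        have e1 := congrArg (fun v => S.β (J v) p₂) hab
        have e2 := congrArg (fun v => S.β (J v) p₁) hab
        simp only [map_add, map_smul, LinearMap.add_apply, LinearMap.smul_apply, smul_eq_mul, map_zero,
          LinearMap.zero_apply, hself hJ, mul_zero, add_zero, zero_add] at e1 e2
        have hne' : S.β (J p₂) p₁ ≠ 0 := by rw [hJ, S.symm]; exact neg_ne_zero.2 hne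
        exact ⟨(mul_eq_zero.1 e1).resolve_right hne, (mul_eq_zero.1 e2).resolve_right hne'⟩
      have := finrank_span_eq_card hli
      rw [Matrix.range_cons_cons_empty] at this
      simpa using this
    omega
  refine ⟨S.β (J' p₁) p₂ / S.β (J p₁) p₂, ?_⟩
  set D := J' - (S.β (J' p₁) p₂ / S.β (J p₁) p₂) • J with hD
  have hDs : ∀ u v, S.β (D u) v = -S.β u (D v) := fun u v => by
    simp only [hD, LinearMap.sub_apply, LinearMap.smul_apply, map_sub, map_smul, smul_eq_mul, hJ' u v, hJ u v]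
    ring
  have hDK : ∀ k ∈ K, D k = 0 := fun k hk => by simp [hD, hJ'K k hk, hJK k hk]
  have hD12 : S.β (D p₁) p₂ = 0 := by
    simp only [hD, LinearMap.sub_apply, LinearMap.smul_apply, map_sub, map_smul, smul_eq_mul,
      div_mul_cancel₀ _ hne, sub_self]
  have hD21 : S.β (D p₂) p₁ = 0 := by rw [hDs, S.symm, hD12, neg_zero]
  have hzero : ∀ v, S.β (D p₁) v = 0 ∧ S.β (D p₂) v = 0 := by
    intro v
    have hv : v ∈ K ⊔ Submodule.span F {p₁, p₂} := hsp ▸ Submodule.mem_top
    obtain ⟨k, hk, w, hw, rfl⟩ := Submodule.mem_sup.1 hv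
    obtain ⟨a, b, rfl⟩ := Submodule.mem_span_pair.1 hw
    simp only [map_add, map_smul, smul_eq_mul, hself hDs, hD12, hD21, mul_zero, add_zero]
    refine ⟨?_, ?_⟩ <;> rw [hDs, hDK k hk, map_zero, neg_zero]
  refine (sub_eq_zero.1 (LinearMap.ext fun v => ?_) : J' = _)
  have hv : v ∈ K ⊔ Submodule.span F {p₁, p₂} := hsp ▸ Submodule.mem_top
  obtain ⟨k, hk, w, hw, rfl⟩ := Submodule.mem_sup.1 hv
  obtain ⟨a, b, rfl⟩ := Submodule.mem_span_pair.1 hw
  show D _ = 0
  rw [map_add, map_add, map_smul, map_smul, hDK k hk, S.nd (D p₁) fun v => (hzero v).1,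
    S.nd (D p₂) fun v => (hzero v).2]
  simp

/-- The shape of a conjugate of a reflection. -/
theorem inv'_shape (hM : S.Over M) (hS : Small hM) {g : (X × X) ≃ₗ[F] (X × X)} (hg : g ∈ M) {x : X}
    (hx : S.β x x ≠ 0) (hnd : ¬ ∃ R : X →ₗ[F] X, ∀ u v, S.inv' g x hx (u, v) = (R u, R v)) :
    ∃ (K : Submodule F X) (R J : X →ₗ[F] X) (c₀ c₁ c₂ : F), finrank F X = finrank F K + 2 ∧
      (∀ u v, S.β (R u) v = S.β u (R v)) ∧ (∀ u v, S.β (J u) v = -S.β u (J v)) ∧ J ≠ 0 ∧
      (c₀ ≠ 0 ∨ c₁ ≠ 0 ∨ c₂ ≠ 0) ∧ (∀ k ∈ K, R k = k ∧ J k = 0) ∧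
      ∀ u v, S.inv' g x hx (u, v) = (R u + c₀ • J u + c₁ • J v, c₂ • J u + (R v - c₀ • J v)) := by
  haveI := S.finite
  set z := S.inv' g x hx with hz
  have hzi := hM.iso z (hM.inv'_mem hg x hx)
  have hzz : ∀ p, z (z p) = p := S.inv'_invol g x hx
  have hadj : ∀ p q, S.ω (z p) q = S.ω p (z q) := fun p q => by
    conv_lhs => rw [← hzz q, hzi]
  let Za : X →ₗ[F] X := LinearMap.fst F X X ∘ₗ z.toLinearMap ∘ₗ LinearMap.inl F X X
  let Zb : X →ₗ[F] X := LinearMap.fst F X X ∘ₗ z.toLinearMap ∘ₗ LinearMap.inr F X X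
  let Zc : X →ₗ[F] X := LinearMap.snd F X X ∘ₗ z.toLinearMap ∘ₗ LinearMap.inl F X X
  let Zd : X →ₗ[F] X := LinearMap.snd F X X ∘ₗ z.toLinearMap ∘ₗ LinearMap.inr F X X
  have hsplit : ∀ u v, z (u, v) = (Za u + Zb v, Zc u + Zd v) := fun u v => by
    rw [show ((u, v) : X × X) = (u, 0) + (0, v) by simp, map_add]
    exact Prod.ext rfl rfl
  have hb : ∀ u v, S.β (Zb u) v = -S.β u (Zb v) := fun u v => by
    have h := hadj (0, u) (0, v)
    simp [hsplit, Symm.ω] at h
    exact h
  have hc : ∀ u v, S.β (Zc u) v = -S.β u (Zc v) := fun u v => by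
    have h := hadj (u, 0) (v, 0)
    simp [hsplit, Symm.ω] at h
    linear_combination -h
  have had : ∀ u v, S.β (Za u) v = S.β u (Zd v) := fun u v => by
    have h := hadj (u, 0) (0, v)
    simpa [hsplit, Symm.ω] using h
  have hE : ∀ u v, S.β ((Za - Zd) u) v = -S.β u ((Za - Zd) v) := fun u v => by
    rw [LinearMap.sub_apply, LinearMap.sub_apply, map_sub, map_sub, LinearMap.sub_apply, had u v, S.symm (Zd u) v,
      ← had v u, S.symm (Za v) u]
    ring
  set R := (2 : F)⁻¹ • (Za + Zd) with hR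
  have hRs : ∀ u v, S.β (R u) v = S.β u (R v) := fun u v => by
    simp only [hR, LinearMap.smul_apply, LinearMap.add_apply, map_smul, map_add, smul_eq_mul, had u v,
      S.symm (Zd u) v, ← had v u, S.symm (Za v) u]
    ring
  set K := fixSpace S g x hx with hK
  have hfin := finrank_fixSpace hM hS hg hx
  have hfix : ∀ k ∈ K, Za k = k ∧ Zb k = 0 ∧ Zc k = 0 ∧ Zd k = k := fun k hk => by
    obtain ⟨h1, h2⟩ := mem_fixSpace.1 hk
    rw [← hz, hsplit] at h1 h2
    simp only [map_zero, add_zero, zero_add, Prod.mk.injEq] at h1 h2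
    exact ⟨h1.1, h2.1, h1.2, h2.2⟩
  have hKE : ∀ k ∈ K, (Za - Zd) k = 0 := fun k hk => by simp [hfix k hk]
  obtain ⟨J, hJ, hJK, hJ0, c₀, c₁, c₂, e0, e1, e2⟩ :
      ∃ J : X →ₗ[F] X, (∀ u v, S.β (J u) v = -S.β u (J v)) ∧ (∀ k ∈ K, J k = 0) ∧ J ≠ 0 ∧
        ∃ c₀ c₁ c₂ : F, Za - Zd = (2 * c₀) • J ∧ Zb = c₁ • J ∧ Zc = c₂ • J := by
    have main : ∀ J : X →ₗ[F] X, (∀ u v, S.β (J u) v = -S.β u (J v)) → (∀ k ∈ K, J k = 0) → J ≠ 0 →
        ∃ c₀ c₁ c₂ : F, Za - Zd = (2 * c₀) • J ∧ Zb = c₁ • J ∧ Zc = c₂ • J := by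
      intro J hJ hJK hJ0
      obtain ⟨a, ha⟩ := skew_unique hfin hJ hE hJK hKE hJ0
      obtain ⟨b, hb'⟩ := skew_unique hfin hJ hb hJK (fun k hk => (hfix k hk).2.1) hJ0
      obtain ⟨c, hc'⟩ := skew_unique hfin hJ hc hJK (fun k hk => (hfix k hk).2.2.1) hJ0
      exact ⟨a / 2, b, c, by rw [ha, mul_div_cancel₀ _ S.two], hb', hc'⟩
    by_cases h1 : Zb = 0
    · by_cases h2 : Zc = 0
      · by_cases h3 : Za - Zd = 0
        · refine absurd ⟨Za, fun u v => ?_⟩ hnd
          rw [hsplit, h1, h2, ← sub_eq_zero.1 h3]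
          simp
        · exact ⟨_, hE, hKE, h3, main _ hE hKE h3⟩
      · exact ⟨_, hc, fun k hk => (hfix k hk).2.2.1, h2, main _ hc (fun k hk => (hfix k hk).2.2.1) h2⟩
    · exact ⟨_, hb, fun k hk => (hfix k hk).2.1, h1, main _ hb (fun k hk => (hfix k hk).2.1) h1⟩
  have hZa : ∀ u, Za u = R u + c₀ • J u := fun u => by
    have h := LinearMap.congr_fun e0 u
    simp only [LinearMap.sub_apply, LinearMap.smul_apply] at h
    simp only [hR, LinearMap.smul_apply, LinearMap.add_apply]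
    have := S.two
    linear_combination (norm := (match_scalars <;> field_simp <;> ring)) (2 : F)⁻¹ • h
  have hZd : ∀ u, Zd u = R u - c₀ • J u := fun u => by
    have h := LinearMap.congr_fun e0 u
    simp only [LinearMap.sub_apply, LinearMap.smul_apply] at h
    simp only [hR, LinearMap.smul_apply, LinearMap.add_apply]
    have := S.two
    linear_combination (norm := (match_scalars <;> field_simp <;> ring)) -(2 : F)⁻¹ • h
  refine ⟨K, R, J, c₀, c₁, c₂, ?_, hRs, hJ, hJ0, ?_, fun k hk => ⟨?_, hJK k hk⟩, fun u v => ?_⟩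
  · refine le_antisymm hfin ?_
    by_contra hlt
    -- otherwise `J` vanishes
    refine hJ0 (LinearMap.ext fun u => S.nd _ fun v => ?_)
    by_contra hne
    have hu : u ∉ K := fun h => hne (by rw [hJK u h]; simp)
    have htop : K ⊔ Submodule.span F {u} = ⊤ := by
      refine Submodule.eq_top_of_finrank_eq (le_antisymm (Submodule.finrank_le _) ?_)
      have := Submodule.finrank_lt_finrank_of_lt (left_lt_sup.2 fun h =>
        hu (h (Submodule.mem_span_singleton_self u)) : K < K ⊔ Submodule.span F {u})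
      omega
    obtain ⟨k, hk, w, hw, rfl⟩ := Submodule.mem_sup.1 (htop ▸ Submodule.mem_top : v ∈ K ⊔ Submodule.span F {u})
    obtain ⟨t, rfl⟩ := Submodule.mem_span_singleton.1 hw
    refine hne ?_
    have h1 : S.β (J u) u = 0 := by
      have h2 := hJ u u
      rw [S.symm u (J u)] at h2
      exact (mul_eq_zero.1 (show (2 : F) * _ = 0 by linear_combination h2)).resolve_left S.two
    rw [map_add, map_smul, h1, hJ, hJK k hk, map_zero, neg_zero, smul_zero, add_zero]
  · by_contra h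
    push Not at h
    obtain ⟨rfl, rfl, rfl⟩ := h
    refine hnd ⟨R, fun u v => ?_⟩
    rw [hsplit, hZa, hZd, e1, e2]
    simp
  · simp only [hR, LinearMap.smul_apply, LinearMap.add_apply, (hfix k hk).1, (hfix k hk).2.2.2, ← two_smul F k,
      smul_smul, inv_mul_cancel₀ S.two, one_smul]
  · rw [hsplit, hZa, hZd, e1, e2]
    simp

end Symm

end Cfsg.Agent.H98.TensorSymTwo
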