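import Cfsg.Agent.H98.TensorSymTwo.Blocks

/-!
An overgroup of `Sp₂ ⊗ O(X)`, `dim X ≥ 5`, in the symplectic group respects the decomposition or contains every
transvection.
-/

set_option autoImplicit false

namespace Cfsg.Agent.H98.TensorSymTwo

open Module

variable {F X : Type*} [Field F] [AddCommGroup X] [Module F X] [Fintype F]

namespace Symm

variable {S : Symm F X} {M : Subgroup ((X × X) ≃ₗ[F] (X × X))}

/-- The product of two such conjugates moves some `F² ⊗ x` out of every `F² ⊗` plane. -/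
theorem false_of_data (hM : S.Over M) (hS : Small hM) {z : (X × X) ≃ₗ[F] (X × X)} (hz : z ∈ M)
    {K : Submodule F X} {R J : X →ₗ[F] X} {c₀ c₁ c₂ : F} (hc : c₀ ≠ 0 ∨ c₁ ≠ 0 ∨ c₂ ≠ 0)
    (hRs : ∀ u v, S.β (R u) v = S.β u (R v)) (hJ : ∀ u v, S.β (J u) v = -S.β u (J v))
    (hK : ∀ k ∈ K, R k = k ∧ J k = 0)
    (hzf : ∀ u v, z (u, v) = (R u + c₀ • J u + c₁ • J v, c₂ • J u + (R v - c₀ • J v)))
    (N : X ≃ₗ[F] X) (hN : ∀ u v, S.β (N u) (N v) = S.β u v)
    (hNJ : ∀ u, N (J u) ∈ K) (hNR : ∀ u, N (R u - u) ∈ K)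
    {x t₁ t₂ t₃ : X} (hx : S.β x x ≠ 0) (h3 : t₃ ∈ K) (h3J : ∀ u, S.β (N (J u)) t₃ = 0)
    (h3R : ∀ u, S.β (N (R u - u)) t₃ = 0) (hx3 : S.β x t₃ ≠ 0) (h1 : S.β (J x) t₁ ≠ 0)
    (h1J : ∀ u, S.β (N (J u)) t₁ = 0) (h2 : S.β (N (J (N.symm x))) t₂ ≠ 0) : False := by
  haveI := S.finite
  set w := N (J (N.symm x)) with hw
  set r := N (R (N.symm x)) with hr
  have hrx : r - x = N (R (N.symm x) - N.symm x) := by rw [map_sub, LinearEquiv.apply_symm_apply]
  have hwK : w ∈ K := hNJ _
  have hrK : r - x ∈ K := by rw [hrx]; exact hNR _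
  have hJr : J r = J x := by
    have := (hK _ hrK).2
    rwa [map_sub, sub_eq_zero] at this
  -- the twisting element
  obtain ⟨a, b, c, d, hd, c₀', c₁', c₂', e0, e1, e2, e3, hsep⟩ : ∃ a b c d : F, ∃ _ : a * d - b * c = 1,
      ∃ c₀' c₁' c₂' : F, a * c₀ + b * c₂ = c₀' * a + c₁' * c ∧ a * c₁ - b * c₀ = c₀' * b + c₁' * d ∧
        c * c₀ + d * c₂ = c₂' * a - c₀' * c ∧ c * c₁ - d * c₀ = c₂' * b - c₀' * d ∧
        ∀ U W : F, c₀' * W + c₀ * U = 0 → c₁' * W + c₁ * U = 0 → c₂' * W + c₂ * U = 0 → U = 0 ∧ W = 0 := by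
    rcases eq_or_ne c₂ 0 with h | h
    · subst h
      refine ⟨1, 0, 1, 1, by ring, c₀ - c₁, c₁, 2 * c₀ - c₁, by ring, by ring, by ring, by ring,
        fun U W f0 f1 f2 => ?_⟩
      rcases eq_or_ne c₁ 0 with h' | h'
      · subst h'
        have hc0 : c₀ ≠ 0 := by simpa using hc
        have hW : W = 0 :=
          (mul_eq_zero.1 (show (2 * c₀) * W = 0 by linear_combination f2)).resolve_left (mul_ne_zero S.two hc0)
        subst hW
        exact ⟨(mul_eq_zero.1 (show c₀ * U = 0 by linear_combination f0)).resolve_left hc0, rfl⟩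
      · have hWU : W + U = 0 := (mul_eq_zero.1 (show c₁ * (W + U) = 0 by linear_combination f1)).resolve_left h'
        have hW : W = 0 :=
          (mul_eq_zero.1 (show c₁ * W = 0 by linear_combination -f0 + c₀ * hWU)).resolve_left h'
        exact ⟨by linear_combination hWU - hW, hW⟩
    · refine ⟨1, 1, 0, 1, by ring, c₀ + c₂, c₁ - 2 * c₀ - c₂, c₂, by ring, by ring, by ring, by ring,
        fun U W f0 f1 f2 => ?_⟩
      have hWU : W + U = 0 := (mul_eq_zero.1 (show c₂ * (W + U) = 0 by linear_combination f2)).resolve_left h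
      have hW : W = 0 := (mul_eq_zero.1 (show c₂ * W = 0 by linear_combination f0 - c₀ * hWU)).resolve_left h
      exact ⟨by linear_combination hWU - hW, hW⟩
  set e := mat (X := X) a b c d hd * diag N with he
  have heM : e ∈ M := M.mul_mem (hM.mat_mem hd) (hM.diag_mem hN)
  set q := z * (e * z * e⁻¹) with hq
  have hqM : q ∈ M := M.mul_mem hz (M.mul_mem (M.mul_mem heM hz) (M.inv_mem heM))
  -- its conjugate factor on `F² ⊗ x`
  have hz' : ∀ α γ : F, (e * z * e⁻¹) (α • x, γ • x) =
      (α • r + (c₀' * α + c₁' * γ) • w, (c₂' * α - c₀' * γ) • w + γ • r) := by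
    intro α γ
    show e (z (e.symm (α • x, γ • x))) = _
    have hsymm : e.symm (α • x, γ • x) = (((d * α - b * γ) • N.symm x), ((a * γ - c * α) • N.symm x)) := by
      show (diag N).symm ((mat a b c d hd).symm (α • x, γ • x)) = _
      rw [mat_symm_apply]
      simp [diag, map_sub, sub_smul, smul_smul]
    rw [hsymm, hzf]
    show mat a b c d hd (diag N _) = _
    simp only [diag, LinearEquiv.prodCongr_apply, map_add, map_sub, map_smul, ← hw, ← hr, mat_apply]
    refine Prod.ext ?_ ?_
    · match_scalars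
      · linear_combination α * hd
      · linear_combination (d * α - b * γ) * e0 + (a * γ - c * α) * e1 + (c₀' * α + c₁' * γ) * hd
    · match_scalars
      · linear_combination γ * hd
      · linear_combination (d * α - b * γ) * e2 + (a * γ - c * α) * e3 + (c₂' * α - c₀' * γ) * hd
  have hqx : ∀ α γ : F, q (α • x, γ • x) = (α • R r + (c₀' * α + c₁' * γ) • w + (c₀ * α + c₁ * γ) • J x,
      (c₂' * α - c₀' * γ) • w + γ • R r + (c₂ * α - c₀ * γ) • J x) := by
    intro α γ
    show z ((e * z * e⁻¹) (α • x, γ • x)) = _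
    rw [hz', hzf]
    simp only [map_add, map_smul, hJr, (hK w hwK).1, (hK w hwK).2, smul_zero, add_zero]
    refine Prod.ext ?_ ?_ <;> module
  set K₂ := fixSpace S q x hx
  have hfin := finrank_fixSpace hM hS hqM hx
  -- three independent vectors orthogonal to it
  let L : X →ₗ[F] F × F × F := (S.β.flip t₁).prod ((S.β.flip t₁).prod (S.β.flip t₁))
  let Φ : X →ₗ[F] F × F × F := (S.β (R r)).prod ((S.β (J x)).prod (S.β w))
  have hle : K₂ ≤ LinearMap.ker Φ := by
    intro k hk
    obtain ⟨p1, p2⟩ := image_perp hM hqM hx hk 1 0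
    obtain ⟨p3, p4⟩ := image_perp hM hqM hx hk 0 1
    rw [hqx] at p1 p2 p3 p4
    simp only [map_add, map_smul, LinearMap.add_apply, LinearMap.smul_apply, smul_eq_mul, mul_one, mul_zero,
      zero_mul, one_mul, add_zero, zero_add, zero_sub, sub_zero] at p1 p2 p3 p4
    have hA : S.β (R r) k = 0 := (mul_eq_zero.1 (show (2 : F) * S.β (R r) k = 0 by
      linear_combination p1 + p4)).resolve_left S.two
    obtain ⟨hU, hW⟩ := hsep (S.β (J x) k) (S.β w k) (by linear_combination p1 - hA) (by linear_combination p3)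
      (by linear_combination p2)
    simp [Φ, hA, hU, hW]
  have hA : S.β (R r) t₃ = S.β x t₃ := by
    rw [hRs, (hK t₃ h3).1, show r = x + (r - x) by abel, map_add, LinearMap.add_apply, hrx, h3R, add_zero]
  have hJ3 : S.β (J x) t₃ = 0 := by rw [hJ, (hK t₃ h3).2, map_zero, neg_zero]
  have hsurj : LinearMap.range Φ = ⊤ := by
    rw [eq_top_iff]
    rintro ⟨α, γ, δ⟩ -
    set v₂ := (δ / S.β w t₂) • t₂
    set v₁ := ((γ - S.β (J x) v₂) / S.β (J x) t₁) • t₁
    set v₃ := ((α - S.β (R r) v₂ - S.β (R r) v₁) / S.β x t₃) • t₃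
    refine ⟨v₃ + v₁ + v₂, Prod.ext ?_ (Prod.ext ?_ ?_)⟩
    · show S.β (R r) (v₃ + v₁ + v₂) = α
      simp only [map_add, v₃, map_smul, smul_eq_mul]
      rw [hA, div_mul_cancel₀ _ hx3]
      ring
    · show S.β (J x) (v₃ + v₁ + v₂) = γ
      simp only [map_add, v₃, v₁, map_smul, smul_eq_mul]
      rw [hJ3, div_mul_cancel₀ _ h1]
      ring
    · show S.β w (v₃ + v₁ + v₂) = δ
      have e3 : S.β w t₃ = 0 := h3J _
      have e4 : S.β w t₁ = 0 := h1J _
      simp only [map_add, v₃, v₁, map_smul, smul_eq_mul, e3, e4, mul_zero, zero_add]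
      simp only [v₂, map_smul, smul_eq_mul, div_mul_cancel₀ _ h2]
  have h4 := LinearMap.finrank_range_add_finrank_ker Φ
  rw [hsurj, finrank_top, finrank_prod, finrank_prod, finrank_self] at h4
  have h5 : finrank F (fixSpace S q x hx) ≤ finrank F (LinearMap.ker Φ) := Submodule.finrank_mono hle
  omega

/-- No conjugate of a reflection is of the shape `1 ⊗ R + A ⊗ J` with `A ⊗ J ≠ 0`. -/
theorem false_of_shape (hM : S.Over M) (hS : Small hM) {g : (X × X) ≃ₗ[F] (X × X)} (hg : g ∈ M) {x : X}
    (hx : S.β x x ≠ 0) (hnd : ¬ ∃ R : X →ₗ[F] X, ∀ u v, S.inv' g x hx (u, v) = (R u, R v)) : False := by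
  haveI := S.finite
  obtain ⟨K, R, J, c₀, c₁, c₂, hdim, hRs, hJ, hJ0, hc, hK, hzf⟩ := inv'_shape hM hS hg hx hnd
  have hzM := hM.inv'_mem hg x hx
  have hzz := S.inv'_invol g x hx
  -- the orthogonal plane of `K`
  let T : X →ₗ[F] (K →ₗ[F] F) := S.β.compl₂ K.subtype
  have hT : ∀ v, v ∈ LinearMap.ker T ↔ ∀ k ∈ K, S.β v k = 0 := fun v => by
    rw [LinearMap.mem_ker]
    exact ⟨fun h k hk => LinearMap.congr_fun h ⟨k, hk⟩, fun h => LinearMap.ext fun k => h k k.2⟩
  have hJim : ∀ u, J u ∈ LinearMap.ker T := fun u => (hT _).2 fun k hk => by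
    rw [hJ, (hK k hk).2, map_zero, neg_zero]
  have hRim : ∀ u, R u - u ∈ LinearMap.ker T := fun u => (hT _).2 fun k hk => by
    rw [map_sub, LinearMap.sub_apply, hRs, (hK k hk).1, sub_self]
  have hPdim : 2 ≤ finrank F (LinearMap.ker T) := by
    have h1 := LinearMap.finrank_range_add_finrank_ker T
    have h2 := Submodule.finrank_le (LinearMap.range T)
    rw [finrank_linearMap_self] at h2
    omega
  obtain ⟨p, hp, hpp⟩ : ∃ p ∈ LinearMap.ker T, S.β p p ≠ 0 := by
    by_contra hcon
    push Not at hcon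
    have hperp : ∀ v ∈ LinearMap.ker T, ∀ v' ∈ LinearMap.ker T, S.β v v' = 0 := fun v hv v' hv' => by
      have h1 := hcon _ (Submodule.add_mem _ hv hv')
      rw [S.norm_add, hcon v hv, hcon v' hv', zero_add, add_zero] at h1
      exact (mul_eq_zero.1 h1).resolve_left S.two
    -- then the involution is unipotent
    have hJJ : ∀ u v, J v = 0 → S.β (J u) v = 0 := fun u v h => by rw [hJ, h, map_zero, neg_zero]
    have hkill : ∀ v ∈ LinearMap.ker T, J v = 0 ∧ R v = v := fun v hv =>
      ⟨S.nd _ fun u => by rw [hJ, hperp v hv _ (hJim u), neg_zero],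
        sub_eq_zero.1 (S.nd _ fun u => by
          have h1 := hperp v hv _ (hRim u)
          rw [map_sub, ← hRs] at h1
          rwa [map_sub, LinearMap.sub_apply])⟩
    have hN : ∀ u v, R u - u + c₀ • J u + c₁ • J v = 0 ∧ c₂ • J u + (R v - v - c₀ • J v) = 0 := by
      intro u v
      have h := hzz (u, v)
      rw [hzf, hzf] at h
      simp only [map_add, map_sub, map_smul, Prod.mk.injEq, (hkill _ (hJim u)).1, (hkill _ (hJim u)).2,
        (hkill _ (hJim v)).1, (hkill _ (hJim v)).2, smul_zero, add_zero, sub_zero] at h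
      have r1 : ∀ y, R (R y) = R y + R y - y := fun y => by
        have := (hkill _ (hRim y)).2
        rw [map_sub] at this
        linear_combination (norm := module) this
      have j1 : ∀ y, J (R y) = J y := fun y => by
        have := (hkill _ (hRim y)).1
        rwa [map_sub, sub_eq_zero] at this
      rw [r1, r1, j1, j1] at h
      constructor
      · refine smul_right_injective X S.two ?_
        simp only [smul_zero]
        linear_combination (norm := module) h.1
      · refine smul_right_injective X S.two ?_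
        simp only [smul_zero]
        linear_combination (norm := module) h.2
    obtain ⟨a, b, hab⟩ : ∃ a b, S.β (J a) b ≠ 0 := by
      by_contra hall
      push Not at hall
      exact hJ0 (LinearMap.ext fun a => S.nd _ (hall a))
    rcases hc with hc | hc | hc
    · have e1 := (hN a 0).1
      have e2 := (hN b 0).1
      simp only [map_zero, smul_zero, add_zero] at e1 e2
      have f1 := congrArg (S.β · b) e1
      have f2 := congrArg (S.β · a) e2
      simp only [map_add, map_sub, map_smul, LinearMap.add_apply, LinearMap.sub_apply, LinearMap.smul_apply,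
        smul_eq_mul, map_zero, LinearMap.zero_apply] at f1 f2
      rw [hRs b a, S.symm b (R a), hJ b a, S.symm b (J a), S.symm b a] at f2
      exact mul_ne_zero (mul_ne_zero S.two hc) hab (by linear_combination f1 - f2)
    · have e1 := congrArg (S.β · b) (hN 0 a).1
      simp at e1
      exact mul_ne_zero hc hab (by simpa using e1)
    · have e1 := congrArg (S.β · b) (hN a 0).2
      simp at e1
      exact mul_ne_zero hc hab (by simpa using e1)
  obtain ⟨q₀, hq₀, hq₀p⟩ : ∃ v ∈ LinearMap.ker T, v ∉ Submodule.span F {p} := by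
    refine SetLike.exists_of_lt (lt_of_le_of_ne ((Submodule.span_singleton_le_iff_mem _ _).2 hp) fun h => ?_)
    rw [← h] at hPdim
    have h1 := finrank_span_le_card (R := F) ({p} : Set X)
    simp at h1
    omega
  obtain ⟨q, hqd⟩ : ∃ q, q = q₀ - (S.β q₀ p / S.β p p) • p := ⟨_, rfl⟩
  have hq : q ∈ LinearMap.ker T := hqd ▸ Submodule.sub_mem _ hq₀ (Submodule.smul_mem _ _ hp)
  have hqp : S.β q p = 0 := by simp [hqd, div_mul_cancel₀ _ hpp]
  have hpq : S.β p q = 0 := by rw [S.symm, hqp]
  have hq0 : q ≠ 0 := fun h => hq₀p (Submodule.mem_span_singleton.2 ⟨_, (sub_eq_zero.1 (hqd ▸ h)).symm⟩)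
  obtain ⟨σ₀, hσ₀⟩ := not_forall.1 fun h => hq0 (S.nd q h)
  obtain ⟨s, hsd⟩ : ∃ s, s = (S.β q σ₀)⁻¹ • (σ₀ - (S.β σ₀ p / S.β p p) • p) := ⟨_, rfl⟩
  have hqs : S.β q s = 1 := by
    simp only [hsd, map_smul, map_sub, smul_eq_mul, hqp, mul_zero, sub_zero]
    exact inv_mul_cancel₀ hσ₀
  have hsp : S.β s p = 0 := by simp [hsd, div_mul_cancel₀ _ hpp]
  -- `K` is the space orthogonal to the plane
  have hKmem : ∀ v, S.β v p = 0 → S.β v q = 0 → v ∈ K := by
    let L : X →ₗ[F] F × F := (S.β.flip p).prod (S.β.flip q)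
    have hsurj : LinearMap.range L = ⊤ := by
      rw [eq_top_iff]
      rintro ⟨α, γ⟩ -
      exact ⟨(α / S.β p p) • p + γ • s, by simp [L, div_mul_cancel₀ _ hpp, hpq, hsp, S.symm s q, hqs]⟩
    have h1 := LinearMap.finrank_range_add_finrank_ker L
    rw [hsurj, finrank_top, finrank_prod, finrank_self] at h1
    have heq : K = LinearMap.ker L := Submodule.eq_of_le_of_finrank_eq (fun k hk => by
      simp [L, S.symm k p, S.symm k q, (hT p).1 hp k hk, (hT q).1 hq k hk]) (by omega)
    intro v hvp hvq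
    rw [heq]
    simp [L, hvp, hvq]
  have hPspan : ∀ v ∈ LinearMap.ker T, ∃ α γ : F, v = α • p + γ • q := by
    have hli : LinearIndependent F ![p, q] := LinearIndependent.pair_iff.2 fun α γ h => by
      have e1 := congrArg (S.β · p) h
      have e2 := congrArg (S.β · s) h
      simp only [map_add, map_smul, LinearMap.add_apply, LinearMap.smul_apply, smul_eq_mul, map_zero,
        LinearMap.zero_apply, hqp, mul_zero, add_zero, hqs, mul_one, S.symm p s, hsp, zero_add] at e1 e2
      exact ⟨(mul_eq_zero.1 e1).resolve_right hpp, e2⟩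
    have h2 := finrank_span_eq_card hli
    rw [Matrix.range_cons_cons_empty, Fintype.card_fin] at h2
    have hle : Submodule.span F {p, q} ≤ LinearMap.ker T := by
      rw [Submodule.span_le]; rintro v (rfl | rfl); exacts [hp, hq]
    have hup : finrank F (LinearMap.ker T) ≤ 2 := by
      -- the kernel is isotropically paired with a space of dimension `dim K`
      have hinjK : Function.Injective (S.β ∘ₗ K.subtype) := (injective_iff_map_eq_zero _).2 fun k hk =>
        Subtype.ext (S.nd _ fun y => LinearMap.congr_fun hk y)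
      let Λ : K →ₗ[F] (LinearMap.ker T).dualAnnihilator :=
        { toFun := fun k => ⟨S.β k, (Submodule.mem_dualAnnihilator _).2 fun v hv => by
            rw [S.symm]; exact (hT v).1 hv k k.2⟩
          map_add' := fun k l => Subtype.ext (map_add S.β (k : X) l)
          map_smul' := fun t k => Subtype.ext (map_smul S.β t (k : X)) }
      have h3 := LinearMap.finrank_le_finrank_of_injective (f := Λ) fun k l h => hinjK (congrArg Subtype.val h)
      have h4 := Subspace.finrank_add_finrank_dualAnnihilator_eq (LinearMap.ker T)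
      omega
    have heq := Submodule.eq_of_le_of_finrank_le hle (by omega)
    intro v hv
    rw [← heq] at hv
    obtain ⟨α, γ, h⟩ := Submodule.mem_span_pair.1 hv
    exact ⟨α, γ, h.symm⟩
  have hskK : ∀ k ∈ K, S.skewOf p q k = 0 := fun k hk => by
    rw [skewOf_apply, S.symm k q, S.symm k p, (hT q).1 hq k hk, (hT p).1 hp k hk, zero_smul, zero_smul, sub_zero]
  have hsk0 : S.skewOf p q ≠ 0 := fun h => hq0 (by
    have h1 := LinearMap.congr_fun h p
    rw [skewOf_apply, hpq, zero_smul, zero_sub, LinearMap.zero_apply, neg_eq_zero, smul_eq_zero] at h1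
    exact h1.resolve_left hpp)
  obtain ⟨j, hj⟩ := skew_unique hdim.le (S.skewOf_skew p q) hJ hskK (fun k hk => (hK k hk).2) hsk0
  have hj0 : j ≠ 0 := fun h => hJ0 (by rw [hj, h, zero_smul])
  have hJa : ∀ u, J u = j • (S.β u q • p - S.β u p • q) := fun u => by rw [hj]; rfl
  have himN : ∀ (N : X ≃ₗ[F] X) (t : X), S.β (N p) t = 0 → S.β (N q) t = 0 →
      ∀ v ∈ LinearMap.ker T, S.β (N v) t = 0 := by
    intro N t h1 h2 v hv
    obtain ⟨α, γ, rfl⟩ := hPspan v hv
    simp [h1, h2]
  have hNK : ∀ (N : X ≃ₗ[F] X), N p ∈ K → N q ∈ K → ∀ v ∈ LinearMap.ker T, N v ∈ K := by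
    intro N h1 h2 v hv
    obtain ⟨α, γ, rfl⟩ := hPspan v hv
    rw [map_add, map_smul, map_smul]
    exact K.add_mem (K.smul_mem _ h1) (K.smul_mem _ h2)
  have hdim5 := S.dim
  by_cases hqq : S.β q q = 0
  · -- a degenerate plane
    obtain ⟨σ, hσd⟩ : ∃ σ, σ = s - (S.β s s / 2) • q := ⟨_, rfl⟩
    have hσq : S.β σ q = 1 := by simp [hσd, hqq, S.symm s q, hqs]
    have hσp : S.β σ p = 0 := by simp [hσd, hsp, hqp]
    have hσσ : S.β σ σ = 0 := by
      simp only [hσd, S.norm_sub, map_smul, LinearMap.smul_apply, smul_eq_mul, hqq, S.symm s q, hqs]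
      have := S.two
      field_simp
      ring
    have hn1 : S.β (q + σ) (q + σ) ≠ 0 := by rw [S.norm_add, hqq, hσσ, S.symm q σ, hσq]; simpa using S.two
    have hn2 : S.β (q - σ) (q - σ) ≠ 0 := by rw [S.norm_sub, hqq, hσσ, S.symm q σ, hσq]; simpa using S.two
    obtain ⟨f, hf, hff⟩ := S.exists_norm (S.orth_three hpp hn1 hn2 (by simp [hpq, S.symm p σ, hσp])
      (by simp [hpq, S.symm p σ, hσp]) (by simp [hqq, hσσ, S.symm q σ, hσq])) (by omega) (S.β p p)
    have hfp : S.β f p = 0 := by simpa using hf 0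
    have f1 := hf 1
    have f2 := hf 2
    simp at f1 f2
    have hfq : S.β f q = 0 := (mul_eq_zero.1 (show (2 : F) * S.β f q = 0 by linear_combination f1 + f2)).resolve_left
      S.two
    have hfσ : S.β f σ = 0 := (mul_eq_zero.1 (show (2 : F) * S.β f σ = 0 by linear_combination f1 - f2)).resolve_left
      S.two
    have hd : S.β (p - f) (p - f) = 2 * S.β p p := by rw [S.norm_sub, S.symm p f, hfp, hff]; ring
    have hd0 : S.β (p - f) (p - f) ≠ 0 := by rw [hd]; exact mul_ne_zero S.two hpp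
    set N := S.refl (p - f) hd0
    have hNp : N p = f := by
      rw [S.refl_apply, hd, map_sub, S.symm p f, hfp, sub_zero,
        show 2 / (2 * S.β p p) * S.β p p = 1 by have := S.two; field_simp]
      module
    have hNq : N q = q := S.refl_fix hd0 (by simp [hqp, S.symm q f, hfq])
    have hqK : q ∈ K := hKmem q hqp hqq
    have hfK : f ∈ K := hKmem f hfp hfq
    refine false_of_data hM hS hzM hc hRs hJ hK hzf N (S.refl_iso _ _)
      (fun u => hNK N (hNp ▸ hfK) (hNq.symm ▸ hqK) _ (hJim u))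
      (fun u => hNK N (hNp ▸ hfK) (hNq.symm ▸ hqK) _ (hRim u))
      (x := σ + q) (t₁ := p) (t₂ := f) (t₃ := q) ?_ hqK
      (fun u => himN N q (by rw [hNp, hfq]) (by rw [hNq, hqq]) _ (hJim u))
      (fun u => himN N q (by rw [hNp, hfq]) (by rw [hNq, hqq]) _ (hRim u)) ?_ ?_
      (fun u => himN N p (by rw [hNp, hfp]) (by rw [hNq, hqp]) _ (hJim u)) ?_
    · rw [S.norm_add, hσσ, hσq, hqq]; simpa using S.two
    · simp [hσq, hqq]
    · rw [hJa]; simp [hσp, hσq, hqp, hqq, hj0, hpp]
    · have hx : N.symm (σ + q) = σ + q := by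
        rw [LinearEquiv.symm_apply_eq]
        exact (S.refl_fix hd0 (by simp [hσp, hqp, S.symm σ f, hfσ, S.symm q f, hfq])).symm
      rw [hx, hJa]
      simp only [map_sub, map_smul, hNp, hNq]
      simp [hσp, hσq, hqp, hqq, hj0, hff, hpp]
  · -- a non-degenerate plane
    obtain ⟨f₁, hf₁, hf₁n⟩ := S.exists_norm (S.orth_two hpp hqq hpq) (by omega) (S.β p p)
    have h1p : S.β f₁ p = 0 := by simpa using hf₁ 0
    have h1q : S.β f₁ q = 0 := by simpa using hf₁ 1
    have hf₁0 : S.β f₁ f₁ ≠ 0 := by rw [hf₁n]; exact hpp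
    obtain ⟨f₂, hf₂, hf₂n⟩ := S.exists_norm
      (S.orth_three hpp hqq hf₁0 hpq (by rw [S.symm, h1p]) (by rw [S.symm, h1q])) (by omega) (S.β q q)
    have h2p : S.β f₂ p = 0 := by simpa using hf₂ 0
    have h2q : S.β f₂ q = 0 := by simpa using hf₂ 1
    have h21 : S.β f₂ f₁ = 0 := by simpa using hf₂ 2
    have hf₂0 : S.β f₂ f₂ ≠ 0 := by rw [hf₂n]; exact hqq
    have ho : S.Orth (Fin.cons f₂ ![p, q, f₁] : Fin 4 → X) :=
      Orth.cons S (S.orth_three hpp hqq hf₁0 hpq (by rw [S.symm, h1p]) (by rw [S.symm, h1q]))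
        (fun i => by fin_cases i <;> simpa) hf₂0
    obtain ⟨k, hk, hkk⟩ := S.exists_orth ho (by omega)
    have hk2 : S.β k f₂ = 0 := by simpa using hk 0
    have hkp : S.β k p = 0 := by simpa using hk 1
    have hkq : S.β k q = 0 := by simpa using hk 2
    have hk1 : S.β k f₁ = 0 := by simpa using hk 3
    have e1 : S.β (p - f₁) (p - f₁) = 2 * S.β p p := by rw [S.norm_sub, S.symm p f₁, h1p, hf₁n]; ring
    have e2 : S.β (q - f₂) (q - f₂) = 2 * S.β q q := by rw [S.norm_sub, S.symm q f₂, h2q, hf₂n]; ring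
    have n1 : S.β (p - f₁) (p - f₁) ≠ 0 := by rw [e1]; exact mul_ne_zero S.two hpp
    have n2 : S.β (q - f₂) (q - f₂) ≠ 0 := by rw [e2]; exact mul_ne_zero S.two hqq
    set N := (S.refl (p - f₁) n1).trans (S.refl (q - f₂) n2)
    have hNiso : ∀ u v, S.β (N u) (N v) = S.β u v := fun u v =>
      (S.refl_iso _ n2 _ _).trans (S.refl_iso _ n1 u v)
    have hNp : N p = f₁ := by
      show S.refl (q - f₂) n2 (S.refl (p - f₁) n1 p) = f₁
      have h : S.refl (p - f₁) n1 p = f₁ := by
        rw [S.refl_apply, e1, map_sub, S.symm p f₁, h1p, sub_zero,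
          show 2 / (2 * S.β p p) * S.β p p = 1 by have := S.two; field_simp]
        module
      rw [h, S.refl_fix n2 (by simp [h1q, S.symm f₁ f₂, h21])]
    have hNq : N q = f₂ := by
      show S.refl (q - f₂) n2 (S.refl (p - f₁) n1 q) = f₂
      rw [S.refl_fix n1 (by simp [hqp, S.symm q f₁, h1q]), S.refl_apply, e2, map_sub, S.symm q f₂, h2q, sub_zero,
        show 2 / (2 * S.β q q) * S.β q q = 1 by have := S.two; field_simp]
      module
    have hf₁K := hKmem f₁ h1p h1q
    have hf₂K := hKmem f₂ h2p h2q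
    obtain ⟨ε, hε⟩ : ∃ ε : F, S.β (p + f₁ + ε • f₂ + k) (p + f₁ + ε • f₂ + k) ≠ 0 := by
      by_contra hcon
      push Not at hcon
      have g0 := hcon 0
      have g1 := hcon 1
      simp only [map_add, map_smul, LinearMap.add_apply, LinearMap.smul_apply, smul_eq_mul, S.symm p f₁, h1p,
        S.symm p f₂, h2p, S.symm p k, hkp, S.symm f₁ f₂, h21, S.symm f₁ k, hk1, S.symm f₂ k, hk2, mul_zero, add_zero,
        zero_add, one_mul, zero_mul] at g0 g1
      exact hf₂0 (by linear_combination g1 - g0)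
    set x := p + f₁ + ε • f₂ + k
    have hxp : S.β x p = S.β p p := by simp [x, h1p, h2p, hkp]
    have hxq : S.β x q = 0 := by simp [x, hpq, h1q, h2q, hkq]
    have hxf₁ : S.β x f₁ = S.β p p := by simp [x, S.symm p f₁, h1p, h21, hk1, hf₁n]
    have hxk : S.β x k = S.β k k := by simp [x, S.symm p k, hkp, S.symm f₁ k, hk1, S.symm f₂ k, hk2]
    refine false_of_data hM hS hzM hc hRs hJ hK hzf N hNiso
      (fun u => hNK N (hNp ▸ hf₁K) (hNq.symm ▸ hf₂K) _ (hJim u))
      (fun u => hNK N (hNp ▸ hf₁K) (hNq.symm ▸ hf₂K) _ (hRim u))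
      (x := x) (t₁ := q) (t₂ := f₂) (t₃ := k) hε (hKmem k hkp hkq)
      (fun u => himN N k (by rw [hNp, S.symm, hk1]) (by rw [hNq, S.symm, hk2]) _ (hJim u))
      (fun u => himN N k (by rw [hNp, S.symm, hk1]) (by rw [hNq, S.symm, hk2]) _ (hRim u)) ?_ ?_
      (fun u => himN N q (by rw [hNp, h1q]) (by rw [hNq, h2q]) _ (hJim u)) ?_
    · rw [hxk]; exact hkk
    · rw [hJa]; simp [hxp, hxq, hpq, hj0, hpp, hqq]
    · have a1 : S.β (N.symm x) p = S.β x f₁ := by rw [← hNp, ← hNiso (N.symm x) p, LinearEquiv.apply_symm_apply]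
      rw [hJa]
      simp only [map_sub, map_smul, hNp, hNq, a1, hxf₁]
      simp [S.symm f₁ f₂, h21, hj0, hpp, hf₂0]

/-- The dichotomy. -/
theorem dichotomy (hM : S.Over M) : (∀ g ∈ M, Dec g) ∨ ∀ u l, S.rt u l ∈ M := by
  classical
  by_cases hS : Small hM
  swap
  · right
    simp only [Small, not_forall, not_exists] at hS
    obtain ⟨A, hA, hns⟩ := hS
    exact roots_of_radical hM hA hns
  left
  intro g hg
  haveI := S.finite
  have hline : ∀ x, S.β x x ≠ 0 → ∃ (p : X) (a b c d : F), g (x, 0) = (a • p, c • p) ∧ g (0, x) = (b • p, d • p) := by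
    intro x hx
    obtain ⟨R, hR⟩ := not_not.1 fun h => false_of_shape hM hS hg hx h
    set z := S.inv' g x hx with hz
    have hneg : ∀ v : X × X, S.refl x hx v.1 = -v.1 → S.refl x hx v.2 = -v.2 → z (g v) = -g v := fun v h1 h2 => by
      show g (diag (S.refl x hx) (g.symm (g v))) = _
      rw [LinearEquiv.symm_apply_apply, ← map_neg]
      exact congrArg g (Prod.ext h1 h2)
    have hE := hneg (x, 0) (S.refl_self hx) (by simp)
    have hE' := hneg (0, x) (by simp) (S.refl_self hx)
    have hmem : ∀ v, z v = -v → v ∈ Submodule.span F {g (x, 0), g (0, x)} := by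
      intro v hv
      rw [hz, S.inv'_apply] at hv
      set α := 2 / S.β x x * S.β (g.symm v).1 x
      set γ := 2 / S.β x x * S.β (g.symm v).2 x
      refine Submodule.mem_span_pair.2 ⟨α / 2, γ / 2, smul_right_injective (X × X) S.two ?_⟩
      simp only [smul_add, smul_smul, mul_div_cancel₀ _ S.two]
      linear_combination (norm := module) -hv
    obtain ⟨p, hp, hp0⟩ : ∃ p, R p = -p ∧ p ≠ 0 := by
      have h1 := hR (g (x, 0)).1 (g (x, 0)).2
      rw [Prod.mk.eta, hE] at h1
      by_cases h0 : (g (x, 0)).1 = 0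
      · refine ⟨(g (x, 0)).2, (congrArg Prod.snd h1).symm, fun h => hx ?_⟩
        have : g (x, 0) = g 0 := by rw [map_zero]; exact Prod.ext h0 h
        have := congrArg Prod.fst (g.injective this)
        simp only [Prod.fst_zero] at this
        rw [this]; simp
      · exact ⟨_, (congrArg Prod.fst h1).symm, h0⟩
    have hle : Submodule.span F {((p, 0) : X × X), (0, p)} ≤ Submodule.span F {g (x, 0), g (0, x)} := by
      rw [Submodule.span_le]
      rintro v (rfl | rfl) <;> refine hmem _ ?_ <;> simp [hR, hp]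
    have hfin : finrank F (Submodule.span F {((p, 0) : X × X), (0, p)}) = 2 := by
      have hli : LinearIndependent F ![((p, 0) : X × X), (0, p)] := LinearIndependent.pair_iff.2 fun α γ h => by
        have e1 := congrArg Prod.fst h
        have e2 := congrArg Prod.snd h
        simp [hp0] at e1 e2
        exact ⟨e1, e2⟩
      have := finrank_span_eq_card hli
      rwa [Matrix.range_cons_cons_empty, Fintype.card_fin] at this
    have hup : finrank F (Submodule.span F {g (x, 0), g (0, x)}) ≤ 2 := by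
      refine (finrank_span_le_card ({g (x, 0), g (0, x)} : Set (X × X))).trans ?_
      simpa using Finset.card_le_two
    have heq := Submodule.eq_of_le_of_finrank_le hle (by omega)
    obtain ⟨a, c, hac⟩ := Submodule.mem_span_pair.1
      (heq.symm ▸ Submodule.subset_span (Set.mem_insert _ _) :
        g (x, 0) ∈ Submodule.span F {((p, 0) : X × X), (0, p)})
    obtain ⟨b, d, hbd⟩ := Submodule.mem_span_pair.1
      (heq.symm ▸ Submodule.subset_span (Set.mem_insert_of_mem _ rfl) :
        g (0, x) ∈ Submodule.span F {((p, 0) : X × X), (0, p)})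
    exact ⟨p, a, b, c, d, by rw [← hac]; simp, by rw [← hbd]; simp⟩
  obtain ⟨x₀, hx₀⟩ := S.exists_aniso
  obtain ⟨p₀, a, b, c, d, hg₀, hg₀'⟩ := hline x₀ hx₀
  have hx00 : x₀ ≠ 0 := fun h => hx₀ (by rw [h]; simp)
  have hac : a ≠ 0 ∨ c ≠ 0 := by
    by_contra h
    push Not at h
    rw [h.1, h.2, zero_smul] at hg₀
    exact hx00 (congrArg Prod.fst (g.injective (hg₀.trans (map_zero g).symm) : (x₀, (0 : X)) = 0))
  let P : Submodule F X :=
    { carrier := {x | ∃ n, g (x, 0) = (a • n, c • n) ∧ g (0, x) = (b • n, d • n)}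
      zero_mem' := ⟨0, by simp [show ((0, 0) : X × X) = 0 from rfl]⟩
      add_mem' := by
        rintro x y ⟨n, hn, hn'⟩ ⟨m, hm, hm'⟩
        refine ⟨n + m, ?_, ?_⟩
        · rw [show ((x + y, 0) : X × X) = (x, 0) + (y, 0) by simp, map_add, hn, hm]; simp
        · rw [show ((0, x + y) : X × X) = (0, x) + (0, y) by simp, map_add, hn', hm']; simp
      smul_mem' := by
        rintro t x ⟨n, hn, hn'⟩
        refine ⟨t • n, ?_, ?_⟩
        · rw [show ((t • x, 0) : X × X) = t • (x, 0) by simp, map_smul, hn]; simp [smul_comm t]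
        · rw [show ((0, t • x) : X × X) = t • (0, x) by simp, map_smul, hn']; simp [smul_comm t] }
  -- two members with an anisotropic sum
  have hstep : ∀ u v, S.β u u ≠ 0 → S.β v v ≠ 0 → S.β u v ≠ 0 → u ∈ P → v ∈ P := by
    intro u v hu hv huv huP
    obtain ⟨n, hn, hn'⟩ := huP
    obtain ⟨m, a', b', c', d', hm, hm'⟩ := hline v hv
    have hu0 : u ≠ 0 := fun h => hu (by rw [h]; simp)
    have hn0 : n ≠ 0 := fun h => hu0 (by
      rw [h, smul_zero, smul_zero] at hn
      exact congrArg Prod.fst (g.injective (hn.trans (map_zero g).symm) : (u, (0 : X)) = 0))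
    by_cases hmn : m ∈ Submodule.span F {n}
    · obtain ⟨μ, rfl⟩ := Submodule.mem_span_singleton.1 hmn
      have hle : Submodule.span F {g (u, 0), g (0, u)} ≤ Submodule.span F {((n, 0) : X × X), (0, n)} := by
        rw [Submodule.span_le]
        rintro w (rfl | rfl)
        · exact Submodule.mem_span_pair.2 ⟨a, c, by rw [hn]; simp⟩
        · exact Submodule.mem_span_pair.2 ⟨b, d, by rw [hn']; simp⟩
      have hfin : finrank F (Submodule.span F {g (u, 0), g (0, u)}) = 2 := by
        have hli : LinearIndependent F ![g (u, 0), g (0, u)] := LinearIndependent.pair_iff.2 fun α γ h => by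
          rw [← map_smul, ← map_smul, ← map_add, ← map_zero g] at h
          have h1 := g.injective h
          have e1 := congrArg Prod.fst h1
          have e2 := congrArg Prod.snd h1
          simp [hu0] at e1 e2
          exact ⟨e1, e2⟩
        have := finrank_span_eq_card hli
        rwa [Matrix.range_cons_cons_empty, Fintype.card_fin] at this
      have hup : finrank F (Submodule.span F {((n, 0) : X × X), (0, n)}) ≤ 2 := by
        refine (finrank_span_le_card ({((n, 0) : X × X), (0, n)} : Set (X × X))).trans ?_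
        simpa using Finset.card_le_two
      have heq := Submodule.eq_of_le_of_finrank_le hle (by omega)
      have hmem : g (v, 0) ∈ Submodule.span F {g (u, 0), g (0, u)} := by
        rw [heq]
        exact Submodule.mem_span_pair.2 ⟨a' * μ, c' * μ, by rw [hm]; simp [smul_smul]⟩
      obtain ⟨α, γ, h⟩ := Submodule.mem_span_pair.1 hmem
      rw [← map_smul, ← map_smul, ← map_add] at h
      have e1 := congrArg Prod.fst (g.injective h)
      simp at e1
      rw [← e1]
      exact P.smul_mem α ⟨n, hn, hn'⟩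
    · obtain ⟨f, hf, hfle⟩ := Submodule.exists_le_ker_of_notMem hmn
      obtain ⟨f', hf', hf'le⟩ := Submodule.exists_le_ker_of_notMem (p := Submodule.span F {m}) (v := n) (fun h => by
        obtain ⟨μ, hμ⟩ := Submodule.mem_span_singleton.1 h
        rcases eq_or_ne μ 0 with rfl | hμ0
        · exact hn0 (by rw [← hμ, zero_smul])
        · exact hmn (Submodule.mem_span_singleton.2 ⟨μ⁻¹, by rw [← hμ, smul_smul, inv_mul_cancel₀ hμ0, one_smul]⟩))
      have hfn : f n = 0 := hfle (Submodule.mem_span_singleton_self _)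
      have hf'm : f' m = 0 := hf'le (Submodule.mem_span_singleton_self _)
      obtain ⟨t, ht, hs⟩ : ∃ t : F, t ≠ 0 ∧ S.β (u + t • v) (u + t • v) ≠ 0 := by
        by_contra hcon
        push Not at hcon
        have g1 := hcon 1 one_ne_zero
        have g2 := hcon (-1) (neg_ne_zero.2 one_ne_zero)
        simp only [S.norm_add, map_smul, LinearMap.smul_apply, smul_eq_mul] at g1 g2
        exact mul_ne_zero (mul_ne_zero S.two S.two) huv (by linear_combination g1 - g2)
      obtain ⟨n', a'', b'', c'', d'', hs1, hs2⟩ := hline _ hs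
      rw [show ((u + t • v, 0) : X × X) = (u, 0) + t • (v, 0) by simp, map_add, map_smul, hn, hm] at hs1
      rw [show ((0, u + t • v) : X × X) = (0, u) + t • (0, v) by simp, map_add, map_smul, hn', hm'] at hs2
      simp only [Prod.smul_mk, Prod.mk_add_mk, Prod.mk.injEq] at hs1 hs2
      have key : ∀ {r r' r'' : F}, r • n + t • r' • m = r'' • n' →
          r * f' n = r'' * f' n' ∧ t * r' * f m = r'' * f n' := by
        intro r r' r'' h
        have k1 := congrArg f' h
        have k2 := congrArg f h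
        simp [hfn, hf'm] at k1 k2
        exact ⟨k1, by linear_combination k2⟩
      have hn'0 : f' n' ≠ 0 := fun h0 => by
        rcases hac with h | h
        · have := (key hs1.1).1
          rw [h0, mul_zero] at this
          exact mul_ne_zero h hf' this
        · have := (key hs1.2).1
          rw [h0, mul_zero] at this
          exact mul_ne_zero h hf' this
      set lam := f' n * f n' / (f' n' * (t * f m))
      have hval : ∀ {r r' r'' : F}, r • n + t • r' • m = r'' • n' → r' = r * lam := by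
        intro r r' r'' h
        obtain ⟨k1, k2⟩ := key h
        simp only [lam]
        field_simp
        linear_combination f' n' * k2 - f n' * k1
      refine ⟨lam • m, ?_, ?_⟩
      · rw [hm, smul_smul, smul_smul, ← hval hs1.1, ← hval hs1.2]
      · rw [hm', smul_smul, smul_smul, ← hval hs2.1, ← hval hs2.2]
  have hall : ∀ x, S.β x x ≠ 0 → x ∈ P := by
    intro x hx
    have h0 : x₀ ∈ P := ⟨p₀, hg₀, hg₀'⟩
    by_cases h : S.β x₀ x = 0
    swap
    · exact hstep x₀ x hx₀ hx h h0
    obtain ⟨k, hk, hkk⟩ := S.exists_orth (S.orth_two hx₀ hx h) (by have := S.dim; omega)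
    have hk0 : S.β k x₀ = 0 := by simpa using hk 0
    have hk1 : S.β k x = 0 := by simpa using hk 1
    obtain ⟨t, ht⟩ := S.exists_add_aniso (x₀ + x) hkk
    refine hstep (x₀ + x + t • k) x ht hx ?_ (hstep x₀ _ hx₀ ht ?_ h0)
    · simpa [h, hk1] using hx
    · simpa [h, S.symm x₀ k, hk0] using hx₀
  have htop := S.aniso_span hall
  rcases hac with h | h
  · refine ⟨a, b, c, d, a⁻¹ • (LinearMap.fst F X X ∘ₗ g.toLinearMap ∘ₗ LinearMap.inl F X X), fun x y => ?_⟩
    obtain ⟨n, hn, hn'⟩ := (htop ▸ Submodule.mem_top : x ∈ P)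
    obtain ⟨m, hm, hm'⟩ := (htop ▸ Submodule.mem_top : y ∈ P)
    rw [show ((x, y) : X × X) = (x, 0) + (0, y) by simp, map_add, hn, hm']
    simp [hn, hm, smul_smul, inv_mul_cancel₀ h, h]
  · refine ⟨a, b, c, d, c⁻¹ • (LinearMap.snd F X X ∘ₗ g.toLinearMap ∘ₗ LinearMap.inl F X X), fun x y => ?_⟩
    obtain ⟨n, hn, hn'⟩ := (htop ▸ Submodule.mem_top : x ∈ P)
    obtain ⟨m, hm, hm'⟩ := (htop ▸ Submodule.mem_top : y ∈ P)
    rw [show ((x, y) : X × X) = (x, 0) + (0, y) by simp, map_add, hn, hm']
    simp [hn, hm, smul_smul, inv_mul_cancel₀ h, h]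

end Symm

end Cfsg.Agent.H98.TensorSymTwo
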