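import Cfsg.Agent.H98.TensorSymTwo.Space

/-!
Decomposable maps of `F² ⊗ X`, the radical attached to `(1,0) ⊗ X`, and transvections from a non-scalar
element of that radical.
-/

set_option autoImplicit false

namespace Cfsg.Agent.H98.TensorSymTwo

open Module

variable {F X : Type*} [Field F] [AddCommGroup X] [Module F X]

/-- A map of the form `A ⊗ N`. -/
def Dec (g : (X × X) ≃ₗ[F] (X × X)) : Prop :=
  ∃ (a b c d : F) (N : X →ₗ[F] X), ∀ x y, g (x, y) = (a • N x + b • N y, c • N x + d • N y)

/-- `(a b; c d) ⊗ 1`. -/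
def mat (a b c d : F) (h : a * d - b * c = 1) : (X × X) ≃ₗ[F] (X × X) :=
  { toFun := fun p => (a • p.1 + b • p.2, c • p.1 + d • p.2)
    map_add' := fun p q => by ext <;> simp only [Prod.fst_add, Prod.snd_add] <;> module
    map_smul' := fun t p => by ext <;> simp only [Prod.smul_fst, Prod.smul_snd, RingHom.id_apply] <;> module
    invFun := fun p => (d • p.1 - b • p.2, a • p.2 - c • p.1)
    left_inv := fun p => by
      ext <;> dsimp only
      · linear_combination (norm := module) h • p.1
      · linear_combination (norm := module) h • p.2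
    right_inv := fun p => by
      ext <;> dsimp only
      · linear_combination (norm := module) h • p.1
      · linear_combination (norm := module) h • p.2 }

theorem mat_apply (a b c d : F) (h : a * d - b * c = 1) (x y : X) :
    mat a b c d h (x, y) = (a • x + b • y, c • x + d • y) := rfl

theorem mat_symm_apply (a b c d : F) (h : a * d - b * c = 1) (x y : X) :
    (mat a b c d h).symm (x, y) = (d • x - b • y, a • y - c • x) := rfl

/-- `1 ⊗ N`. -/
def diag (N : X ≃ₗ[F] X) : (X × X) ≃ₗ[F] (X × X) := N.prodCongr N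

/-- `(x, y) ↦ (x + S y, y)`. -/
def upper (S : X →ₗ[F] X) : (X × X) ≃ₗ[F] (X × X) :=
  { toFun := fun p => (p.1 + S p.2, p.2)
    map_add' := fun p q => by ext <;> simp only [Prod.fst_add, Prod.snd_add, map_add]; abel
    map_smul' := fun t p => by ext <;> simp
    invFun := fun p => (p.1 - S p.2, p.2)
    left_inv := fun p => by simp
    right_inv := fun p => by simp }

theorem upper_apply (S : X →ₗ[F] X) (x y : X) : upper S (x, y) = (x + S y, y) := rfl

theorem upper_mul (A B : X →ₗ[F] X) : upper A * upper B = upper (A + B) := LinearEquiv.ext fun p => by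
  rw [LinearEquiv.mul_apply]
  refine Prod.ext ?_ rfl
  show p.1 + B p.2 + A p.2 = p.1 + (A + B) p.2
  rw [LinearMap.add_apply]; abel

theorem upper_inv (A : X →ₗ[F] X) : (upper A)⁻¹ = upper (-A) := LinearEquiv.ext fun p => by
  show (p.1 - A p.2, p.2) = (p.1 + (-A) p.2, p.2)
  rw [LinearMap.neg_apply, sub_eq_add_neg]

namespace Symm

variable (S : Symm F X)

/-- Self-adjointness. -/
def IsSelf (A : X →ₗ[F] X) : Prop := ∀ u v, S.β (A u) v = S.β u (A v)

theorem isSelf_of_iso {A : X →ₗ[F] X} (h : S.IsIso (upper A)) : S.IsSelf A := fun u v => by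
  have h1 := h (0, u) (0, v)
  simp only [Symm.ω, upper_apply, zero_add, map_zero, LinearMap.zero_apply, sub_zero] at h1
  exact (sub_eq_zero.1 h1)

theorem iso_mat {a b c d : F} (h : a * d - b * c = 1) : S.IsIso (mat a b c d h) := by
  rintro ⟨x, y⟩ ⟨x', y'⟩
  simp only [Symm.ω, mat_apply, map_add, map_smul, LinearMap.add_apply, LinearMap.smul_apply, smul_eq_mul]
  linear_combination (S.β x y' - S.β y x') * h

theorem iso_diag {N : X ≃ₗ[F] X} (hN : ∀ u v, S.β (N u) (N v) = S.β u v) : S.IsIso (diag N) := fun p q => by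
  simp [Symm.ω, diag, hN]

/-- Reflection. -/
noncomputable def refl (x : X) (hx : S.β x x ≠ 0) : X ≃ₗ[F] X :=
  LinearEquiv.ofInvolutive (LinearMap.id - ((2 / S.β x x) • S.β.flip x).smulRight x) fun y => by
    simp only [LinearMap.sub_apply, LinearMap.id_apply, LinearMap.smulRight_apply, LinearMap.smul_apply,
      LinearMap.flip_apply, map_sub, map_smul, smul_eq_mul]
    have h : 2 / S.β x x * S.β x x = 2 := div_mul_cancel₀ _ hx
    linear_combination (norm := module) (2 / S.β x x * S.β y x) • congrArg (· • x) h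

theorem refl_apply (x : X) (hx : S.β x x ≠ 0) (y : X) :
    S.refl x hx y = y - (2 / S.β x x * S.β y x) • x := rfl

theorem refl_refl (x : X) (hx : S.β x x ≠ 0) (y : X) : S.refl x hx (S.refl x hx y) = y :=
  (S.refl x hx).symm_apply_apply y

theorem refl_iso (x : X) (hx : S.β x x ≠ 0) (u v : X) : S.β (S.refl x hx u) (S.refl x hx v) = S.β u v := by
  simp only [S.refl_apply, map_sub, map_smul, LinearMap.sub_apply, LinearMap.smul_apply, smul_eq_mul,
    S.symm x v]
  field_simp
  ring

theorem refl_fix {x y : X} (hx : S.β x x ≠ 0) (h : S.β y x = 0) : S.refl x hx y = y := by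
  rw [S.refl_apply, h, mul_zero, zero_smul, sub_zero]

theorem refl_self {x : X} (hx : S.β x x ≠ 0) : S.refl x hx x = -x := by
  rw [S.refl_apply, div_mul_cancel₀ _ hx]; module

/-- An overgroup of the stabiliser of the decomposition, inside the isometry group. -/
structure Over (M : Subgroup ((X × X) ≃ₗ[F] (X × X))) : Prop where
  iso : ∀ g ∈ M, S.IsIso g
  dec : ∀ g, S.IsIso g → Dec g → g ∈ M

/-- The map of a transvection. -/
def rtMap (u : X × X) (l : F) : (X × X) →ₗ[F] (X × X) :=
  { toFun := fun p => p + (l * S.ω p u) • u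
    map_add' := fun p q => by
      simp only [Symm.ω, Prod.fst_add, Prod.snd_add, map_add, LinearMap.add_apply]; module
    map_smul' := fun t p => by
      simp only [Symm.ω, Prod.smul_fst, Prod.smul_snd, map_smul, LinearMap.smul_apply, smul_eq_mul,
        RingHom.id_apply]
      module }

/-- The transvection at `u` with parameter `l`. -/
def rt (u : X × X) (l : F) : (X × X) ≃ₗ[F] (X × X) :=
  LinearEquiv.ofLinear (S.rtMap u l) (S.rtMap u (-l))
    (LinearMap.ext fun p => by
      show (p + (-l * S.ω p u) • u) + (l * S.ω (p + (-l * S.ω p u) • u) u) • u = p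
      have hu := S.ω_self u
      simp only [Symm.ω, Prod.fst_add, Prod.snd_add, Prod.smul_fst, Prod.smul_snd, map_add, map_smul,
        LinearMap.add_apply, LinearMap.smul_apply, smul_eq_mul] at hu ⊢
      linear_combination (norm := module) (l * (-l * (S.β p.1 u.2 - S.β p.2 u.1))) • congrArg (· • u) hu)
    (LinearMap.ext fun p => by
      show (p + (l * S.ω p u) • u) + (-l * S.ω (p + (l * S.ω p u) • u) u) • u = p
      have hu := S.ω_self u
      simp only [Symm.ω, Prod.fst_add, Prod.snd_add, Prod.smul_fst, Prod.smul_snd, map_add, map_smul,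
        LinearMap.add_apply, LinearMap.smul_apply, smul_eq_mul] at hu ⊢
      linear_combination (norm := module) (-l * (l * (S.β p.1 u.2 - S.β p.2 u.1))) • congrArg (· • u) hu)

theorem rt_apply (u : X × X) (l : F) (p : X × X) : S.rt u l p = p + (l * S.ω p u) • u := rfl

variable {S} {M : Subgroup ((X × X) ≃ₗ[F] (X × X))}

theorem Over.mat_mem (hM : S.Over M) {a b c d : F} (h : a * d - b * c = 1) : mat a b c d h ∈ M :=
  hM.dec _ (S.iso_mat h) ⟨a, b, c, d, LinearMap.id, fun x y => rfl⟩

theorem Over.diag_mem (hM : S.Over M) {N : X ≃ₗ[F] X} (hN : ∀ u v, S.β (N u) (N v) = S.β u v) : diag N ∈ M :=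
  hM.dec _ (S.iso_diag hN) ⟨1, 0, 0, 1, N.toLinearMap, fun x y => by simp [diag]⟩

theorem Over.upper_one (hM : S.Over M) (t : F) : upper (t • (LinearMap.id : X →ₗ[F] X)) ∈ M := by
  have h := hM.mat_mem (a := 1) (b := t) (c := 0) (d := 1) (by ring)
  convert h using 1
  refine LinearEquiv.ext fun p => ?_
  show (p.1 + (t • (LinearMap.id : X →ₗ[F] X)) p.2, p.2) = ((1 : F) • p.1 + t • p.2, (0 : F) • p.1 + (1 : F) • p.2)
  simp

/-- The radical elements in `M` form a subspace. -/
def Over.radical [Fintype F] (hM : S.Over M) : Submodule F (X →ₗ[F] X) where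
  carrier := {A | upper A ∈ M}
  zero_mem' := by
    have h1 : upper (0 : X →ₗ[F] X) = 1 := LinearEquiv.ext fun p => by simp [upper]
    show upper (0 : X →ₗ[F] X) ∈ M
    rw [h1]; exact M.one_mem
  add_mem' {A B} ha hb := by
    show upper (A + B) ∈ M
    rw [← upper_mul]
    exact M.mul_mem ha hb
  smul_mem' c A hA := by
    have hneg : upper (-A) ∈ M := upper_inv A ▸ M.inv_mem hA
    have hsq : ∀ t : F, ∀ B : X →ₗ[F] X, upper B ∈ M → upper ((t * t) • B) ∈ M := fun t B hB => by
      rcases eq_or_ne t 0 with rfl | ht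
      · rw [mul_zero, zero_smul]
        convert M.one_mem using 1
        exact LinearEquiv.ext fun p => by simp [upper]
      have hd : t * t⁻¹ - 0 * 0 = (1 : F) := by rw [mul_inv_cancel₀ ht]; ring
      convert M.mul_mem (M.mul_mem (hM.mat_mem hd) hB) (M.inv_mem (hM.mat_mem hd)) using 1
      refine LinearEquiv.ext fun p => ?_
      show _ = mat t 0 0 t⁻¹ hd (upper B ((mat t 0 0 t⁻¹ hd).symm (p.1, p.2)))
      rw [mat_symm_apply, upper_apply, mat_apply]
      refine Prod.ext ?_ ?_
      · show p.1 + ((t * t) • B) p.2 = _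
        simp only [LinearMap.smul_apply, zero_smul, sub_zero, add_zero, upper_apply]
        simp [smul_smul, mul_inv_cancel₀ ht]
      · show p.2 = _
        simp only [zero_smul, sub_zero, zero_add, upper_apply]
        simp [smul_smul, inv_mul_cancel₀ ht]
    show upper (c • A) ∈ M
    have h2 := S.two
    have hc : c • A = ((c + 1) / 2 * ((c + 1) / 2)) • A + ((c - 1) / 2 * ((c - 1) / 2)) • (-A) := by
      rw [smul_neg, ← sub_eq_add_neg, ← sub_smul]
      congr 1
      field_simp
      ring
    rw [hc, ← upper_mul]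
    exact M.mul_mem (hsq _ A hA) (hsq _ _ hneg)

theorem Over.mem_radical [Fintype F] (hM : S.Over M) {A : X →ₗ[F] X} : A ∈ hM.radical ↔ upper A ∈ M := Iff.rfl

theorem Over.radical_conj [Fintype F] (hM : S.Over M) {A : X →ₗ[F] X} (hA : A ∈ hM.radical) {N : X ≃ₗ[F] X}
    (hN : ∀ u v, S.β (N u) (N v) = S.β u v) :
    N.toLinearMap ∘ₗ A ∘ₗ N.symm.toLinearMap ∈ hM.radical := by
  rw [hM.mem_radical] at hA ⊢
  convert M.mul_mem (M.mul_mem (hM.diag_mem hN) hA) (M.inv_mem (hM.diag_mem hN)) using 1
  refine LinearEquiv.ext fun p => ?_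
  show (p.1 + N (A (N.symm p.2)), p.2) = (N (N.symm p.1 + A (N.symm p.2)), N (N.symm p.2))
  simp

variable (S)

/-- `v ↦ β(v, x) y + β(v, y) x`. -/
def sym (x y : X) : X →ₗ[F] X := (S.β.flip x).smulRight y + (S.β.flip y).smulRight x

theorem sym_apply (x y v : X) : S.sym x y v = S.β v x • y + S.β v y • x := rfl

/-- `v ↦ β(v, x) x`. -/
def sq (x : X) : X →ₗ[F] X := (S.β.flip x).smulRight x

theorem sq_apply (x v : X) : S.sq x v = S.β v x • x := rfl

theorem sym_comm (x y : X) : S.sym x y = S.sym y x := add_comm _ _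

/-- A self-adjoint map with all anisotropic vectors eigenvectors is scalar. -/
theorem scalar_of_eigen [Fintype F] {A : X →ₗ[F] X} (hA : S.IsSelf A)
    (h : ∀ x, S.β x x ≠ 0 → A x = (S.β (A x) x / S.β x x) • x) : ∃ c : F, A = c • LinearMap.id := by
  set ev : X → F := fun x => S.β (A x) x / S.β x x with hev
  have horth : ∀ {x y : X}, S.β x x ≠ 0 → S.β y y ≠ 0 → ev x ≠ ev y →
      S.β x y = 0 ∧ S.β x x + S.β y y = 0 := by
    intro x y hx hy hne
    have hxy : S.β x y = 0 := by
      have h1 := hA x y
      rw [h x hx, h y hy] at h1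
      simp only [map_smul, LinearMap.smul_apply, smul_eq_mul] at h1
      by_contra h0
      exact hne (mul_right_cancel₀ h0 h1)
    refine ⟨hxy, ?_⟩
    by_contra hs
    have hs' : S.β (x + y) (x + y) ≠ 0 := by rwa [S.norm_add, hxy, mul_zero, add_zero]
    have h1 := h (x + y) hs'
    set μ := S.β (A (x + y)) (x + y) / S.β (x + y) (x + y)
    rw [map_add, h x hx, h y hy] at h1
    have hxy' : S.β y x = 0 := by rw [S.symm, hxy]
    have e1 := congrArg (S.β · x) h1
    have e2 := congrArg (S.β · y) h1
    simp only [map_add, map_smul, LinearMap.add_apply, LinearMap.smul_apply, smul_eq_mul, hxy, hxy', mul_zero,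
      add_zero, zero_add] at e1 e2
    exact hne ((mul_right_cancel₀ hx e1).trans (mul_right_cancel₀ hy e2).symm)
  obtain ⟨x₀, hx₀⟩ := S.exists_aniso
  have hall : ∀ y, S.β y y ≠ 0 → ev y = ev x₀ := by
    intro y hy
    by_contra hne
    obtain ⟨hxy, hn⟩ := horth hx₀ hy (Ne.symm hne)
    obtain ⟨k, hk, hkk⟩ := S.exists_orth (S.orth_two hx₀ hy hxy) (by have := S.dim; omega)
    have hkx : S.β k x₀ = 0 := by simpa using hk 0
    have hky : S.β k y = 0 := by simpa using hk 1
    by_cases hk1 : ev k = ev x₀
    · have hky' : ev k ≠ ev y := fun e => hne (e.symm.trans hk1)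
      have n2 := (horth hkk hy hky').2
      -- x₀ and k share their eigenvalue, so does their sum
      have hs : S.β (x₀ + k) (x₀ + k) ≠ 0 := by
        rw [S.norm_add, S.symm x₀ k, hkx, mul_zero, add_zero]
        intro h0
        exact hy ((mul_eq_zero.1 (show (2 : F) * S.β y y = 0 by linear_combination hn + n2 - h0)).resolve_left
          S.two)
      have hes : ev (x₀ + k) ≠ ev y := fun e => by
        have h3 : A (x₀ + k) = ev x₀ • (x₀ + k) := by
          rw [map_add, h x₀ hx₀, h k hkk, smul_add]
          congr 1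
          show ev k • k = _
          rw [hk1]
        have h4 : ev (x₀ + k) = ev x₀ := by
          show S.β (A (x₀ + k)) (x₀ + k) / S.β (x₀ + k) (x₀ + k) = _
          rw [h3, map_smul, LinearMap.smul_apply, smul_eq_mul, mul_div_assoc, div_self hs, mul_one]
        exact hne ((h4.symm.trans e).symm)
      have n3 := (horth hs hy hes).2
      rw [S.norm_add, S.symm x₀ k, hkx, mul_zero, add_zero] at n3
      exact hx₀ (by linear_combination n3 - n2)
    · have n2 := (horth hkk hx₀ hk1).2
      have hky' : ev k = ev y := by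
        by_contra e
        have n3 := (horth hkk hy e).2
        exact hx₀ ((mul_eq_zero.1 (show (2 : F) * S.β x₀ x₀ = 0 by linear_combination hn + n2 - n3)).resolve_left
          S.two)
      have hs : S.β (y + k) (y + k) ≠ 0 := by
        rw [S.norm_add, S.symm y k, hky, mul_zero, add_zero]
        intro h0
        exact hx₀ ((mul_eq_zero.1 (show (2 : F) * S.β x₀ x₀ = 0 by linear_combination hn + n2 - h0)).resolve_left
          S.two)
      have hes : ev (y + k) ≠ ev x₀ := fun e => by
        have h3 : A (y + k) = ev y • (y + k) := by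
          rw [map_add, h y hy, h k hkk, smul_add]
          congr 1
          show ev k • k = _
          rw [hky']
        have h4 : ev (y + k) = ev y := by
          show S.β (A (y + k)) (y + k) / S.β (y + k) (y + k) = _
          rw [h3, map_smul, LinearMap.smul_apply, smul_eq_mul, mul_div_assoc, div_self hs, mul_one]
        exact hne (h4.symm.trans e)
      have n3 := (horth hs hx₀ hes).2
      rw [S.norm_add, S.symm y k, hky, mul_zero, add_zero] at n3
      exact hy (by linear_combination n3 - n2)
  refine ⟨ev x₀, LinearMap.ext fun v => ?_⟩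
  have htop : LinearMap.ker (A - ev x₀ • LinearMap.id) = ⊤ := S.aniso_span fun y hy => by
    rw [LinearMap.mem_ker, LinearMap.sub_apply, LinearMap.smul_apply, LinearMap.id_apply, ← hall y hy, h y hy,
      sub_self]
  have := (htop ▸ Submodule.mem_top : v ∈ LinearMap.ker (A - ev x₀ • LinearMap.id))
  rwa [LinearMap.mem_ker, LinearMap.sub_apply, sub_eq_zero] at this

end Symm

end Cfsg.Agent.H98.TensorSymTwo
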