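import Cfsg.Agent.H98.TensorSymTwo.Radical

/-!
A non-scalar radical element yields all transvections.
-/

set_option autoImplicit false

namespace Cfsg.Agent.H98.TensorSymTwo

open Module

variable {F X : Type*} [Field F] [AddCommGroup X] [Module F X] [Fintype F]

namespace Symm

variable {S : Symm F X} {M : Subgroup ((X × X) ≃ₗ[F] (X × X))}

/-- Conjugating the symmetric product by a reflection. -/
theorem refl_sym (hM : S.Over M) {x p z : X} (hz : S.β z z ≠ 0) (hxz : S.β x z = 0)
    (h : S.sym x p ∈ hM.radical) : S.sym x (S.refl z hz p) ∈ hM.radical := by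
  have h1 := hM.radical_conj h (S.refl_iso z hz)
  convert h1 using 1
  refine LinearMap.ext fun v => ?_
  show S.sym x (S.refl z hz p) v = S.refl z hz (S.sym x p ((S.refl z hz).symm v))
  have e1 : S.β ((S.refl z hz).symm v) x = S.β v x := by
    rw [← S.refl_iso z hz, LinearEquiv.apply_symm_apply, S.refl_fix hz hxz]
  have e2 : S.β ((S.refl z hz).symm v) p = S.β v (S.refl z hz p) := by
    rw [← S.refl_iso z hz, LinearEquiv.apply_symm_apply]
  rw [S.sym_apply, S.sym_apply, map_add, map_smul, map_smul, e1, e2, S.refl_fix hz hxz]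

/-- The vectors `y ⊥ x` paired with `x` in the radical. -/
theorem sym_full (hM : S.Over M) {x p : X} (hx : S.β x x ≠ 0) (hp : S.β p x = 0) (hp0 : p ≠ 0)
    (h : S.sym x p ∈ hM.radical) : ∀ y, S.β y x = 0 → S.sym x y ∈ hM.radical := by
  let W : Submodule F X :=
    { carrier := {y | S.sym x y ∈ hM.radical}
      zero_mem' := by
        have : S.sym x 0 = 0 := LinearMap.ext fun v => by simp [S.sym_apply]
        show S.sym x 0 ∈ hM.radical
        rw [this]; exact zero_mem _
      add_mem' := fun {a b} ha hb => by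
        have : S.sym x (a + b) = S.sym x a + S.sym x b := LinearMap.ext fun v => by
          simp only [S.sym_apply, LinearMap.add_apply, map_add]; module
        show S.sym x (a + b) ∈ hM.radical
        rw [this]; exact add_mem ha hb
      smul_mem' := fun c a ha => by
        have : S.sym x (c • a) = c • S.sym x a := LinearMap.ext fun v => by
          simp only [S.sym_apply, LinearMap.smul_apply, map_smul, smul_eq_mul]; module
        show S.sym x (c • a) ∈ hM.radical
        rw [this]; exact Submodule.smul_mem _ c ha }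
  have hmove : ∀ z, S.β z z ≠ 0 → S.β z x = 0 → ∀ y ∈ W, S.β y z ≠ 0 → z ∈ W := by
    intro z hz hzx y hy hyz
    have h1 : S.refl z hz y ∈ W := refl_sym hM hz (by rw [S.symm, hzx]) hy
    have h2 := W.sub_mem hy h1
    rw [S.refl_apply, sub_sub_cancel] at h2
    have hc : 2 / S.β z z * S.β y z ≠ 0 := mul_ne_zero (div_ne_zero S.two hz) hyz
    have h3 := W.smul_mem (2 / S.β z z * S.β y z)⁻¹ h2
    rwa [smul_smul, inv_mul_cancel₀ hc, one_smul] at h3
  -- an anisotropic member
  obtain ⟨z, hz, hzx, hzW⟩ : ∃ z, S.β z z ≠ 0 ∧ S.β z x = 0 ∧ z ∈ W := by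
    by_contra hc
    push Not at hc
    refine hp0 (S.nd p fun w => ?_)
    obtain ⟨k, hk, hkk⟩ := S.exists_orth (S.orth_one hx) (by have := S.dim; omega)
    have hkx : S.β k x = 0 := by simpa using hk 0
    have hperp : LinearMap.ker (S.β.flip x) ≤ LinearMap.ker (S.β p) := by
      refine S.mem_of_aniso (k := k) (by simpa using hkx) hkk fun u hu huu => ?_
      rw [LinearMap.mem_ker]
      by_contra hpu
      exact hc u huu (by simpa using hu) (hmove u huu (by simpa using hu) p h hpu)
    have h1 := hperp (x := w - (S.β w x / S.β x x) • x) (by simp [div_mul_cancel₀ _ hx])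
    simpa [hp] using h1
  obtain ⟨k₀, hk₀, hk₀'⟩ := S.exists_orth (S.orth_one hx) (by have := S.dim; omega)
  have hxz : S.β x z = 0 := by rw [S.symm, hzx]
  intro y hy
  refine S.mem_of_aniso (W := LinearMap.ker (S.β.flip x)) (k := k₀) (D := W) (by simpa using hk₀ 0) hk₀'
    (fun v hv hvv => ?_) (by simpa using hy)
  have hvx : S.β v x = 0 := by simpa using hv
  by_cases hvz : S.β v z = 0
  swap
  · exact hmove v hvv hvx z hzW (by rwa [S.symm])
  by_cases hs : S.β (v + z) (v + z) = 0
  swap
  · have h1 := hmove _ hs (by simp [hvx, hzx]) z hzW (by simp [S.symm z v, hvz, hz])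
    simpa using W.sub_mem h1 hzW
  rw [S.norm_add, hvz, mul_zero, add_zero] at hs
  obtain ⟨k, hk, hkk⟩ := S.exists_orth (S.orth_three hx hz hvv hxz (by rw [S.symm, hvx]) (by rw [S.symm, hvz]))
    (by have := S.dim; omega)
  have hkx : S.β k x = 0 := by simpa using hk 0
  have hkz : S.β k z = 0 := by simpa using hk 1
  have hkv : S.β k v = 0 := by simpa using hk 2
  have hplus : v + k + z ∈ W := hmove _ (by
      rw [S.norm_add, S.norm_add, map_add, LinearMap.add_apply, S.symm v k, hkv, hkz, hvz]
      intro h0; exact hkk (by linear_combination h0 - hs))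
    (by simp [hvx, hkx, hzx]) z hzW (by simp [S.symm z v, S.symm z k, hvz, hkz, hz])
  have hminus : v - k + z ∈ W := hmove _ (by
      rw [S.norm_add, S.norm_sub, map_sub, LinearMap.sub_apply, S.symm v k, hkv, hkz, hvz]
      intro h0; exact hkk (by linear_combination h0 - hs))
    (by simp [hvx, hkx, hzx]) z hzW (by simp [S.symm z v, S.symm z k, hvz, hkz, hz])
  have h2 := W.smul_mem (2 : F)⁻¹ (W.sub_mem (W.sub_mem (W.add_mem hplus hminus) hzW) hzW)
  convert h2 using 1
  rw [show v + k + z + (v - k + z) - z - z = (2 : F) • v by module, smul_smul, inv_mul_cancel₀ S.two, one_smul]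

/-- All symmetric products of orthogonal pairs, the first anisotropic. -/
theorem sym_mem (hM : S.Over M) {A : X →ₗ[F] X} (hA : A ∈ hM.radical) (hns : ∀ c : F, A ≠ c • LinearMap.id) :
    ∀ x y, S.β x x ≠ 0 → S.β y x = 0 → S.sym x y ∈ hM.radical := by
  have hAs : S.IsSelf A := S.isSelf_of_iso (hM.iso _ hA)
  obtain ⟨x, hx, hxA⟩ : ∃ x, S.β x x ≠ 0 ∧ A x ≠ (S.β (A x) x / S.β x x) • x := by
    by_contra hc
    push Not at hc
    obtain ⟨c, rfl⟩ := S.scalar_of_eigen hAs hc
    exact hns c rfl
  set a := S.β x x with ha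
  set l := S.β (A x) x / a with hl
  set p := A x - l • x with hpd
  have hp : S.β p x = 0 := by
    rw [hpd, map_sub, map_smul, LinearMap.sub_apply, LinearMap.smul_apply, smul_eq_mul, hl,
      div_mul_cancel₀ _ hx, sub_self]
  have hp0 : p ≠ 0 := fun h => hxA (sub_eq_zero.1 h)
  have hsym : S.sym x p ∈ hM.radical := by
    have h1 := sub_mem (hM.radical_conj hA (S.refl_iso x hx)) hA
    convert Submodule.smul_mem _ (-(a / 2)) h1 using 1
    refine LinearMap.ext fun v => ?_
    have e1 : S.β (A v) x = S.β v p + l * S.β v x := by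
      rw [hAs v x, hpd, map_sub, map_smul, smul_eq_mul, sub_add_cancel]
    have e2 : A x = p + l • x := by rw [hpd, sub_add_cancel]
    show S.sym x p v = -(a / 2) • (S.refl x hx (A ((S.refl x hx).symm v)) - A v)
    rw [show (S.refl x hx).symm v = S.refl x hx v from rfl, S.refl_apply, S.refl_apply, S.sym_apply]
    simp only [map_sub, map_smul, LinearMap.sub_apply, LinearMap.smul_apply, smul_eq_mul, e1]
    rw [e2]
    simp only [map_add, map_smul, LinearMap.add_apply, LinearMap.smul_apply, smul_eq_mul, hp]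
    rw [← ha]
    have h2 := S.two
    match_scalars <;> field_simp <;> ring
  have hgood := sym_full hM hx hp hp0 hsym
  have hperp : ∀ z, S.β z z ≠ 0 → S.β z x = 0 → ∀ y, S.β y z = 0 → S.sym z y ∈ hM.radical :=
    fun z hz hzx => sym_full hM hz (by rw [S.symm, hzx]) (fun h => hx (by rw [ha, h]; simp))
      (S.sym_comm z x ▸ hgood z hzx)
  intro z y hz hyz
  by_cases hzx : S.β z x = 0
  · exact hperp z hz hzx y hyz
  -- through a vector orthogonal to both
  obtain ⟨k, hkk, hkx, hkz⟩ : ∃ k, S.β k k ≠ 0 ∧ S.β k x = 0 ∧ S.β k z = 0 := by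
    set p₂ := z - (S.β z x / a) • x
    have hp₂ : S.β p₂ x = 0 := by simp [p₂, div_mul_cancel₀ _ hx, ← ha]
    by_cases h2 : S.β p₂ p₂ = 0
    · haveI := S.finite
      let L : X →ₗ[F] F × F := (S.β.flip x).prod (S.β.flip z)
      have hfin : finrank F X < 2 * finrank F (LinearMap.ker L) := by
        have h1 := LinearMap.finrank_range_add_finrank_ker L
        have h2 := Submodule.finrank_le (LinearMap.range L)
        rw [finrank_prod, finrank_self] at h2
        have := S.dim
        omega
      obtain ⟨k, hk, hkk⟩ := S.exists_aniso_mem hfin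
      exact ⟨k, hkk, congrArg Prod.fst hk, congrArg Prod.snd hk⟩
    · obtain ⟨k, hk, hkk⟩ := S.exists_orth (S.orth_two hx h2 (by rw [S.symm, hp₂])) (by have := S.dim; omega)
      have h1 : S.β k x = 0 := by simpa using hk 0
      refine ⟨k, hkk, h1, ?_⟩
      simpa [p₂, h1] using hk 1
  exact sym_full hM hz (by rw [hkz]) (fun h => hkk (by rw [h]; simp))
    (S.sym_comm z k ▸ hperp k hkk hkx z (by rw [S.symm, hkz])) y hyz

theorem sq_sum (x y : X) : S.sym (x + y) (x - y) = (2 : F) • (S.sq x - S.sq y) := LinearMap.ext fun v => by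
  simp only [S.sym_apply, LinearMap.smul_apply, LinearMap.sub_apply, S.sq_apply, map_add, map_sub]
  module

/-- The squares of isotropic vectors. -/
theorem sq_mem (hM : S.Over M) {A : X →ₗ[F] X} (hA : A ∈ hM.radical) (hns : ∀ c : F, A ≠ c • LinearMap.id)
    {r : X} (hr : S.β r r = 0) : S.sq r ∈ hM.radical := by
  classical
  have hsym := sym_mem hM hA hns
  rcases eq_or_ne r 0 with rfl | hr0
  · have : S.sq (0 : X) = 0 := LinearMap.ext fun v => by simp [S.sq_apply]
    rw [this]; exact zero_mem _
  obtain ⟨x₀, hx₀, hxr⟩ : ∃ x, S.β x x ≠ 0 ∧ S.β x r ≠ 0 := by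
    by_contra hc
    push Not at hc
    exact hr0 (S.nd r fun w => by
      have : LinearMap.ker (S.β r) = ⊤ := S.aniso_span fun u hu => by
        rw [LinearMap.mem_ker, S.symm]; exact hc u hu
      exact LinearMap.mem_ker.1 (this ▸ Submodule.mem_top : w ∈ LinearMap.ker (S.β r)))
  set x := (S.β x₀ r / S.β x₀ x₀) • x₀ with hxd
  set y := r - x with hyd
  have hxx : S.β x x ≠ 0 := by
    rw [hxd]; simp only [map_smul, LinearMap.smul_apply, smul_eq_mul]
    exact mul_ne_zero (div_ne_zero hxr hx₀) (mul_ne_zero (div_ne_zero hxr hx₀) hx₀)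
  have hxy : S.β x y = 0 := by
    rw [hyd, hxd]; simp only [map_sub, map_smul, LinearMap.smul_apply, smul_eq_mul]
    field_simp
    ring
  have hyx : S.β y x = 0 := by rw [S.symm, hxy]
  have hyy : S.β y y = -S.β x x := by
    have h1 := hr
    rw [show r = x + y by rw [hyd]; abel, S.norm_add, hxy] at h1
    linear_combination h1
  set a := S.β x x with ha
  have hdiag : S.sq x + S.sq y ∈ hM.radical := by
    by_cases hq : ∃ t : F, t ≠ 0 ∧ t ^ 2 ≠ 1
    · obtain ⟨t, ht, ht1⟩ := hq
      have h1 : S.β (x + t • y) (x + t • y) ≠ 0 := by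
        rw [S.norm_add]
        simp only [map_smul, LinearMap.smul_apply, smul_eq_mul, hxy, hyy]
        intro h0
        refine ht1 (mul_left_cancel₀ hxx ?_)
        linear_combination -h0
      have h2 : S.β (t • x + y) (x + t • y) = 0 := by
        simp only [map_add, map_smul, LinearMap.add_apply, LinearMap.smul_apply, smul_eq_mul, hxy, hyx, hyy, ← ha]
        ring
      have h3 := sub_mem (hsym _ _ h1 h2) (Submodule.smul_mem _ (1 + t ^ 2) (hsym x y hxx hyx))
      have h4 : S.sym (x + t • y) (t • x + y) - (1 + t ^ 2) • S.sym x y = (2 * t) • (S.sq x + S.sq y) :=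
        LinearMap.ext fun v => by
          simp only [S.sym_apply, LinearMap.smul_apply, LinearMap.sub_apply, LinearMap.add_apply, S.sq_apply,
            map_add, map_smul, smul_eq_mul]
          module
      rw [h4] at h3
      have h5 := Submodule.smul_mem _ (2 * t)⁻¹ h3
      rwa [smul_smul, inv_mul_cancel₀ (mul_ne_zero S.two ht), one_smul] at h5
    · push Not at hq
      have h3 : (3 : F) = 0 := by
        by_cases h : (2 : F) ^ 2 = 1
        · linear_combination h
        · exact absurd (hq 2 S.two) h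
      have hy0 : S.β y y ≠ 0 := by rw [hyy]; exact neg_ne_zero.2 hxx
      obtain ⟨w, hw, hww⟩ := S.exists_norm (S.orth_two hxx hy0 hxy) (by have := S.dim; omega) (-a)
      have hwx : S.β w x = 0 := by simpa using hw 0
      have hwy : S.β w y = 0 := by simpa using hw 1
      set z := (2 : F)⁻¹ • (y + w) with hzd
      set k := (2 : F)⁻¹ • (y - w) with hkd
      have hy' : y = z + k := by rw [hzd, hkd, ← smul_add, show y + w + (y - w) = (2 : F) • y by module, smul_smul,
        inv_mul_cancel₀ S.two, one_smul]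
      have hzk : S.β z k = 0 := by
        simp only [hzd, hkd, map_add, map_sub, map_smul, LinearMap.add_apply, LinearMap.smul_apply, smul_eq_mul,
          hyy, hww, hwy, S.symm y w]
        ring
      have hnz : ∀ v : X, v = z ∨ v = k → S.β v v = a ∧ S.β x v = 0 := by
        have h2 := S.two
        rintro v (rfl | rfl) <;>
        · simp only [hzd, hkd, map_add, map_sub, map_smul, LinearMap.add_apply, LinearMap.sub_apply,
            LinearMap.smul_apply, smul_eq_mul, hyy, hww, hwy, S.symm y w, hxy, S.symm x w, hwx]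
          refine ⟨?_, by ring⟩
          field_simp
          linear_combination -(2 * a) * h3
      have hd : ∀ v : X, v = z ∨ v = k → S.sq x - S.sq v ∈ hM.radical := by
        intro v hv
        obtain ⟨hvv, hxv⟩ := hnz v hv
        have h1 : S.β (x + v) (x + v) ≠ 0 := by
          rw [S.norm_add, hxv, hvv, ← ha, mul_zero, add_zero, ← two_mul]
          exact mul_ne_zero S.two hxx
        have h2 : S.β (x - v) (x + v) = 0 := by
          simp only [map_add, map_sub, LinearMap.sub_apply, hxv, S.symm v x, hvv, ← ha]; ring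
        have h5 := Submodule.smul_mem _ (2 : F)⁻¹ (hsym _ _ h1 h2)
        rw [sq_sum] at h5
        rwa [smul_smul, inv_mul_cancel₀ S.two, one_smul] at h5
      have hks : S.sym z k ∈ hM.radical :=
        hsym z k (by rw [(hnz z (.inl rfl)).1]; exact hxx) (by rw [S.symm, hzk])
      convert sub_mem (sub_mem hks (hd z (.inl rfl))) (hd k (.inr rfl)) using 1
      refine LinearMap.ext fun v => ?_
      rw [hy']
      simp only [LinearMap.add_apply, LinearMap.sub_apply, S.sym_apply, S.sq_apply, map_add]
      linear_combination (norm := module) congrArg (· • (S.β v x • x)) h3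
  convert add_mem hdiag (hsym x y hxx hyx) using 1
  refine LinearMap.ext fun v => ?_
  rw [show r = x + y by rw [hyd]; abel]
  simp only [LinearMap.add_apply, S.sym_apply, S.sq_apply, map_add]
  module

/-- All transvections. -/
theorem roots_of_radical (hM : S.Over M) {A : X →ₗ[F] X} (hA : A ∈ hM.radical)
    (hns : ∀ c : F, A ≠ c • LinearMap.id) : ∀ u l, S.rt u l ∈ M := by
  classical
  let R : Set (X × X) := {u | ∀ l, S.rt u l ∈ M}
  have hconj : ∀ g ∈ M, ∀ u ∈ R, g u ∈ R := by
    intro g hg u hu l
    convert M.mul_mem (M.mul_mem hg (hu l)) (M.inv_mem hg) using 1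
    refine LinearEquiv.ext fun p => ?_
    show S.rt (g u) l p = g (S.rt u l (g.symm p))
    rw [S.rt_apply, S.rt_apply, map_add, map_smul, LinearEquiv.apply_symm_apply]
    congr 3
    conv_lhs => rw [← g.apply_symm_apply p]
    exact hM.iso g hg _ _
  have hsmul : ∀ (c : F), ∀ u ∈ R, c • u ∈ R := by
    intro c u hu l
    convert hu (l * c ^ 2) using 1
    refine LinearEquiv.ext fun p => ?_
    rw [S.rt_apply, S.rt_apply, smul_smul]
    congr 2
    simp only [Symm.ω, Prod.smul_fst, Prod.smul_snd, map_smul, smul_eq_mul]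
    ring
  have hstep : ∀ u ∈ R, ∀ v ∈ R, S.ω v u ≠ 0 → ∀ s : F, v + s • u ∈ R := by
    intro u hu v hv h s
    have h1 := hconj _ (hu (s / S.ω v u)) v hv
    rwa [S.rt_apply, div_mul_cancel₀ _ h] at h1
  have hiso : ∀ r, S.β r r = 0 → ((r, 0) : X × X) ∈ R := by
    intro r hr l
    have h1 : upper ((-l) • S.sq r) ∈ M := (Submodule.smul_mem _ (-l) (sq_mem hM hA hns hr) :)
    convert h1 using 1
    refine LinearEquiv.ext fun p => ?_
    rw [S.rt_apply]
    show p + (l * S.ω p (r, 0)) • (r, 0) = (p.1 + ((-l) • S.sq r) p.2, p.2)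
    refine Prod.ext ?_ ?_ <;>
      simp [Symm.ω, S.sq_apply, smul_smul]
  have hw : (0 : F) * 0 - (-1) * 1 = 1 := by ring
  have hswap : ∀ r : X, ((r, 0) : X × X) ∈ R → ((0, r) : X × X) ∈ R := by
    intro r h
    have h1 := hconj _ (hM.mat_mem hw) _ h
    simpa [mat_apply] using h1
  have hfirst : ∀ u : X, ((u, 0) : X × X) ∈ R := by
    intro u
    by_cases hu : S.β u u = 0
    · exact hiso u hu
    obtain ⟨r₀, hr₀, hur₀⟩ := S.exists_isotropic_nonorth (u := u) (fun h => hu (by rw [h]; simp))
    set r := (S.β u u / (2 * S.β u r₀)) • r₀ with hrd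
    have hrr : S.β r r = 0 := by simp [hrd, hr₀]
    have hur : 2 * S.β u r = S.β u u := by
      rw [hrd, map_smul, smul_eq_mul]; have := S.two; field_simp
    set s := u - r with hsd
    have hss : S.β s s = 0 := by rw [hsd, S.norm_sub, hrr]; linear_combination -hur
    have hrs : S.β r s ≠ 0 := by
      rw [hsd, map_sub, hrr, sub_zero, S.symm]
      intro h0
      exact hu (by rw [← hur, h0, mul_zero])
    have h1 : ((r, 0) : X × X) + (1 : F) • (0, s) ∈ R :=
      hstep _ (hswap s (hiso s hss)) _ (hiso r hrr) (by simpa [Symm.ω] using hrs) 1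
    have hd : (1 : F) * 1 - 1 * 0 = 1 := by ring
    have h2 := hconj _ (hM.mat_mem hd) _ h1
    simp only [one_smul, Prod.mk_add_mk, add_zero, zero_add, mat_apply, zero_smul] at h2
    have h3 := hstep _ (hswap s (hiso s hss)) _ h2 (by
      simpa [Symm.ω, hss] using hrs) (-1)
    have e : r + s = u := by rw [hsd]; abel
    simpa [e] using h3
  have hgen : ∀ p q : X, S.β p q ≠ 0 → ((p, q) : X × X) ∈ R := fun p q h => by
    have := hstep _ (hswap q (hfirst q)) _ (hfirst p) (by simpa [Symm.ω] using h) 1
    simpa using this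
  rintro ⟨p, q⟩
  show (p, q) ∈ R
  rcases eq_or_ne q 0 with rfl | hq
  · exact hfirst p
  rcases eq_or_ne p 0 with rfl | hp
  · exact hswap q (hfirst q)
  by_cases hpq : S.β p q = 0
  swap
  · exact hgen p q hpq
  obtain ⟨w, hw1⟩ := not_forall.1 fun h => hp (S.nd p h)
  have h2 := hstep _ (hswap w (hfirst w)) _ (hgen p (q + w) (by rw [map_add, hpq, zero_add]; exact hw1))
    (by simpa [Symm.ω] using hw1) (-1)
  simpa using h2

end Symm

end Cfsg.Agent.H98.TensorSymTwo
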